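import Cfsg.Agent.FGS76.PRegularClass

/-!
A minimal normal subgroup with a non-trivial element whose class has prime power size is abelian.
-/

set_option autoImplicit false
set_option linter.unusedSectionVars false

namespace Cfsg.Agent.FGS76.TwoPReg

open Subgroup
open scoped commutatorElement

variable {X : Type*} [Group X] [Finite X]

/-- Characteristically simple groups with a prime power class are abelian. -/
theorem comm_of_charSimple {p : ℕ} (hp : p.Prime)
    (hchar : ∀ J : Subgroup X, J.Characteristic → J = ⊥ ∨ J = ⊤) {x : X} (hx : x ≠ 1) {k : ℕ}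
    (hk : (centralizer ({x} : Set X)).index = p ^ k) : ∀ a b : X, a * b = b * a := by
  classical
  haveI : Nontrivial X := ⟨x, 1, hx⟩
  let S : Set (Subgroup X) := {K | K.Normal ∧ K ≠ ⊤}
  let Mx : Set (Subgroup X) := {K | Maximal (· ∈ S) K}
  have hJc : (sInf Mx).Characteristic := by
    refine characteristic_iff_le_comap.2 fun φ => ?_
    intro a ha
    rw [mem_comap, mem_sInf]
    intro K hK
    have hK' : K.comap φ.toMonoidHom ∈ Mx := by
      refine ⟨⟨hK.1.1.comap _, fun e => hK.1.2 ?_⟩, fun L hL hle => ?_⟩
      · rw [← map_comap_eq_self_of_surjective (f := φ.toMonoidHom) φ.surjective K, e,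
          map_top_of_surjective (f := φ.toMonoidHom) φ.surjective]
      · have h1 : L.map φ.toMonoidHom ∈ S := ⟨hL.1.map _ φ.surjective, fun e => hL.2 (by
          rw [← comap_map_eq_self_of_injective (f := φ.toMonoidHom) φ.injective L, e, comap_top])⟩
        have h2 : K ≤ L.map φ.toMonoidHom := by
          rw [← map_comap_eq_self_of_surjective (f := φ.toMonoidHom) φ.surjective K]
          exact map_mono hle
        rw [← comap_map_eq_self_of_injective (f := φ.toMonoidHom) φ.injective L]
        exact comap_mono (hK.2 h1 h2)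
    exact mem_sInf.1 ha _ hK'
  have hSne : S.Nonempty := ⟨⊥, inferInstance, bot_ne_top⟩
  obtain ⟨K0, hK0⟩ := S.toFinite.exists_maximal hSne
  have hJ : sInf Mx = ⊥ := (hchar _ hJc).resolve_right fun e =>
    hK0.1.2 (top_le_iff.1 (e ▸ sInf_le hK0))
  obtain ⟨K, hK, hxK⟩ : ∃ K ∈ Mx, x ∉ K := by
    by_contra hne
    push Not at hne
    exact hx (mem_bot.1 (hJ ▸ mem_sInf.2 hne))
  haveI := hK.1.1
  haveI : Nontrivial (X ⧸ K) := ⟨QuotientGroup.mk x, 1, fun e => hxK ((QuotientGroup.eq_one_iff x).1 e)⟩
  haveI : IsSimpleGroup (X ⧸ K) := ⟨fun L hL => by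
    by_cases e : L.comap (QuotientGroup.mk' K) = ⊤
    · right
      rw [← map_comap_eq_self_of_surjective (QuotientGroup.mk'_surjective K) L, e,
        map_top_of_surjective _ (QuotientGroup.mk'_surjective K)]
    · left
      have h1 : K ≤ L.comap (QuotientGroup.mk' K) := fun a ha => by
        rw [mem_comap, QuotientGroup.mk'_apply, (QuotientGroup.eq_one_iff a).2 ha]
        exact one_mem L
      have h2 := hK.2 ⟨hL.comap _, e⟩ h1
      refine eq_bot_iff.2 fun y hy => ?_
      obtain ⟨a, rfl⟩ := QuotientGroup.mk'_surjective K y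
      exact mem_bot.2 ((QuotientGroup.eq_one_iff a).2 (h2 (mem_comap.2 hy)))⟩
  have hcq : ∀ a b : X ⧸ K, a * b = b * a := by
    by_contra hna
    have h1 : (centralizer ({x} : Set X)).map (QuotientGroup.mk' K) ≤
        centralizer ({QuotientGroup.mk' K x} : Set (X ⧸ K)) := by
      rintro _ ⟨a, ha, rfl⟩
      rw [mem_centralizer_singleton_iff, ← map_mul, ← map_mul, mem_centralizer_singleton_iff.1 ha]
    obtain ⟨l, -, hl⟩ := (Nat.dvd_prime_pow hp).1
      (((index_dvd_of_le h1).trans (index_map_dvd _ (QuotientGroup.mk'_surjective K))).trans hk.dvd)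
    refine CharClifford.card_carrier_ne_prime_pow hna
      (fun e => hxK ((QuotientGroup.eq_one_iff x).1 e) : QuotientGroup.mk' K x ≠ 1) p l hp ?_
    rw [Nat.card_coe_set_eq, FGS76.ncard_carrier, hl]
  have h3 : commutator X ≤ K := by
    rw [commutator_def, commutator_le]
    intro a _ b _
    rw [← QuotientGroup.eq_one_iff]
    show QuotientGroup.mk' K ⁅a, b⁆ = 1
    rw [map_commutatorElement]
    exact commutatorElement_eq_one_iff_mul_comm.2 (hcq _ _)
  have h4 : commutator X = ⊥ := (hchar _ inferInstance).resolve_right fun e =>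
    hK.1.2 (top_le_iff.1 (e ▸ h3))
  intro a b
  rw [← commutatorElement_eq_one_iff_mul_comm, ← mem_bot, ← h4, commutator_def]
  exact commutator_mem_commutator (mem_top a) (mem_top b)

/-- A subgroup with only trivial normal subgroups of the group inside is characteristically simple. -/
theorem charSimple_of_minimal {A : Subgroup X} [A.Normal]
    (hmin : ∀ B : Subgroup X, B.Normal → B ≤ A → B = ⊥ ∨ B = A) (J : Subgroup A)
    (hJ : J.Characteristic) : J = ⊥ ∨ J = ⊤ := by
  rcases hmin (J.map A.subtype) inferInstance (map_subtype_le J) with e | e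
  · left
    exact map_injective A.subtype_injective (e.trans (Subgroup.map_bot _).symm)
  · right
    exact map_injective A.subtype_injective (e.trans (by rw [← MonoidHom.range_eq_map, range_subtype]))

end Cfsg.Agent.FGS76.TwoPReg
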