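import Cfsg.Agent.FGS76.TwoPReg.Torus
import Cfsg.Agent.FGS76.TwoPReg.Minimal

/-!
Finite groups whose `p`-regular classes have two sizes: the structure theorem.
-/

set_option autoImplicit false
set_option linter.unusedSectionVars false

namespace Cfsg.Agent.FGS76.TwoPReg.TwoSizes

open Subgroup
open scoped commutatorElement

variable {G : Type*} [Group G] [Finite G] {p c : ℕ} (h : TwoSizes p c G) (hπ : MultiPrime p G)
include h hπ

theorem prime_of_dvd_tor_index {x : G} (hx : NR p x) {s : ℕ} (hs : s.Prime) (hsp : s ≠ p)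
    (hd : s ∣ (h.tor hπ hx).index) : s ∣ (centralizer ({x} : Set G)).index := by
  haveI := Fact.mk hs
  set C := centralizer ({x} : Set G)
  have hle : h.tor hπ hx ≤ C := fun g hg => hg.1
  rw [← relIndex_mul_index hle] at hd
  refine (hs.dvd_mul.1 hd).resolve_left fun hd' => ?_
  obtain ⟨S⟩ := (inferInstance : Nonempty (Sylow s C))
  refine S.not_dvd_index (hd'.trans (index_dvd_of_le (fun a ha => ?_)))
  obtain ⟨v, hv⟩ := IsPGroup.iff_orderOf.1 S.isPGroup' ⟨a, ha⟩
  refine ⟨a.2, ?_⟩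
  show (orderOf (a : G)).Coprime p
  rw [Subgroup.orderOf_coe, ← Subgroup.orderOf_mk a ha, hv]
  exact Nat.Coprime.pow_left v ((Nat.coprime_primes hs h.prime).2 hsp)

theorem tor_isMulCommutative {x : G} (hx : NR p x) : IsMulCommutative (h.tor hπ hx) :=
  ⟨⟨fun a b => Subtype.ext (h.tor_comm hπ hx a.2 b.2)⟩⟩

theorem not_dvd_card_tor {x : G} (hx : NR p x) : ¬ p ∣ Nat.card (h.tor hπ hx) := by
  intro hd
  haveI := Fact.mk h.prime
  obtain ⟨a, ha⟩ := exists_prime_orderOf_dvd_card' p hd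
  have h1 := a.2.2
  rw [Subgroup.orderOf_coe, ha, Nat.coprime_self] at h1
  exact h.prime.one_lt.ne' h1

/-- An abelian `p`-complement. -/
theorem exists_abelian_compl {x : G} (hx : NR p x)
    (hm : ∀ s : ℕ, s.Prime → s ∣ (centralizer ({x} : Set G)).index → s = p) :
    HasAbelianPCompl p G := by
  refine ⟨h.tor hπ hx, h.tor_isMulCommutative hπ hx, h.not_dvd_card_tor hπ hx,
    _, Nat.eq_prime_pow_of_unique_prime_dvd index_ne_zero_of_finite fun hs hd => ?_⟩
  by_contra hne
  exact hne (hm _ hs (h.prime_of_dvd_tor_index hπ hx hs hne hd))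

theorem index_eq {x y : G} (hx : NR p x) (hy : NR p y) :
    (centralizer ({x} : Set G)).index = (centralizer ({y} : Set G)).index := by
  have h1 := (centralizer ({x} : Set G)).card_mul_index
  rw [h.card_eq x hx, ← h.card_eq y hy, ← (centralizer ({y} : Set G)).card_mul_index] at h1
  exact Nat.eq_of_mul_eq_mul_left Nat.card_pos h1

/-- No prime other than `p` divides the class size. -/
theorem prime_eq {x₀ : G} (hx₀ : NR p x₀) {q : ℕ} (hq : q.Prime)
    (hqm : q ∣ (centralizer ({x₀} : Set G)).index) : q = p := by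
  classical
  by_contra hqp
  haveI := Fact.mk hq
  have hp := h.prime
  haveI := Fact.mk hp
  have htor : ∀ {y : G} (hy : NR p y) (s : ℕ), s.Prime → s ∣ (h.tor hπ hy).index → s = p ∨ s = q := by
    intro y hy s hs hd
    by_cases hsp : s = p
    · exact Or.inl hsp
    · exact Or.inr (h.prime_unique hπ hx₀ hs hq hsp hqp
        (h.index_eq hπ hx₀ hy ▸ h.prime_of_dvd_tor_index hπ hy hs hsp hd) hqm)
  -- the largest normal subgroup that is a `p`-group over the centre
  let 𝒪 : Set (Subgroup G) :=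
    {D | D.Normal ∧ center G ≤ D ∧ ∃ k, (center G).relIndex D = p ^ k}
  obtain ⟨O, hO⟩ := (Set.toFinite 𝒪).exists_maximal
    ⟨center G, inferInstance, le_rfl, 0, by rw [relIndex_self, pow_zero]⟩
  obtain ⟨hOn, hZO, kO, hkO⟩ := hO.1
  haveI := hOn
  have hOpow : ∀ g ∈ O, g ^ (p ^ kO) ∈ center G := by
    intro g hg
    have h1 := pow_index_mem ((center G).subgroupOf O) (⟨g, hg⟩ : O)
    rw [show ((center G).subgroupOf O).index = p ^ kO from hkO] at h1
    simpa [mem_subgroupOf] using h1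
  have hOreg : ∀ g ∈ O, (orderOf g).Coprime p → g ∈ center G := by
    intro g hg hgp
    obtain ⟨m, hm⟩ := exists_pow_eq_self_of_coprime (x := g) (n := p ^ kO) (hgp.pow_right kO).symm
    exact hm ▸ pow_mem (hOpow g hg) m
  have hOmax : ∀ D : Subgroup G, D.Normal → O ≤ D → (∃ k, O.relIndex D = p ^ k) → D = O := by
    intro D hD hle ⟨k, hk⟩
    exact le_antisymm (hO.2 ⟨hD, hZO.trans hle, kO + k,
      by rw [← relIndex_mul_relIndex _ _ _ hZO hle, hkO, hk, pow_add]⟩ hle) hle
  let π := QuotientGroup.mk' O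
  have hπs : Function.Surjective π := QuotientGroup.mk'_surjective O
  have hπ1 : ∀ g, π g = 1 ↔ g ∈ O := fun g => QuotientGroup.eq_one_iff g
  -- a minimal normal subgroup of the quotient
  haveI : Nontrivial (G ⧸ O) :=
    ⟨π x₀, 1, fun e => hx₀.2 (hOreg x₀ ((hπ1 x₀).1 e) hx₀.1)⟩
  obtain ⟨Ā, hĀ⟩ := (Set.toFinite {B : Subgroup (G ⧸ O) | B.Normal ∧ B ≠ ⊥}).exists_minimal
    ⟨⊤, inferInstance, top_ne_bot⟩
  haveI := hĀ.1.1
  have hmin : ∀ B : Subgroup (G ⧸ O), B.Normal → B ≤ Ā → B = ⊥ ∨ B = Ā := fun B hB hle =>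
    or_iff_not_imp_left.2 fun hne => le_antisymm hle (hĀ.2 ⟨hB, hne⟩ hle)
  set A := Ā.comap π with hAdef
  haveI : A.Normal := hĀ.1.1.comap π
  have hOA : O ≤ A := fun g hg => by
    rw [hAdef, mem_comap, (hπ1 g).2 hg]; exact one_mem _
  have hAO : ¬ A ≤ O := fun hle => hĀ.1.2 (eq_bot_iff.2 fun y hy => by
    obtain ⟨g, rfl⟩ := hπs y
    exact mem_bot.2 ((hπ1 g).2 (hle hy)))
  -- it is abelian
  have hcomm : ∀ a b : Ā, a * b = b * a := by
    have hchar := fun J hJ => charSimple_of_minimal hmin J hJ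
    by_cases hqA : q ∣ Nat.card Ā
    · obtain ⟨S⟩ := (inferInstance : Nonempty (Sylow q G))
      -- a `q`-element in `A ∩ S`, outside `O`
      have hne : ¬ (S : Subgroup G) ⊓ A ≤ O := by
        intro hle
        obtain ⟨z, hz⟩ := exists_prime_orderOf_dvd_card' q hqA
        rw [← Subgroup.orderOf_coe] at hz
        obtain ⟨T, hT⟩ := (IsPGroup.of_card (p := q) (n := 1) (G := zpowers (z : G ⧸ O))
          (by rw [Nat.card_zpowers, hz, pow_one])).exists_le_sylow
        obtain ⟨g, hg⟩ := MulAction.exists_smul_eq (G ⧸ O) T (S.mapSurjective hπs)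
        have h1 : g * (z : G ⧸ O) * g⁻¹ ∈ (S.mapSurjective hπs : Subgroup (G ⧸ O)) := by
          rw [← hg, Sylow.coe_subgroup_smul]
          exact ⟨z, hT (mem_zpowers _), rfl⟩
        rw [Sylow.coe_mapSurjective, mem_map] at h1
        obtain ⟨s, hs, hs'⟩ := h1
        have h2 : s ∈ A := by
          rw [hAdef, mem_comap, hs']; exact hĀ.1.1.conj_mem _ z.2 g
        have h3 := (hπ1 s).2 (hle ⟨hs, h2⟩)
        rw [hs'] at h3
        have h4 : (z : G ⧸ O) = 1 := by simpa [mul_inv_eq_one] using h3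
        rw [h4, orderOf_one] at hz
        exact hq.one_lt.ne hz
      obtain ⟨x, ⟨hxS, hxA⟩, hxO, hxc⟩ := exists_central_mod O S.isPGroup'
        (S.isPGroup'.to_le inf_le_left) hne fun r hr a ha =>
          mem_inf.2 ⟨(S : Subgroup G).mul_mem ((S : Subgroup G).mul_mem hr (mem_inf.1 ha).1)
            ((S : Subgroup G).inv_mem hr), (inferInstance : A.Normal).conj_mem a (mem_inf.1 ha).2 r⟩
      obtain ⟨v, hv⟩ := IsPGroup.iff_orderOf.1 S.isPGroup' ⟨x, hxS⟩
      rw [Subgroup.orderOf_mk] at hv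
      have hxn : NR p x := ⟨hv ▸ Nat.Coprime.pow_left v ((Nat.coprime_primes hq hp).2 hqp),
        fun hz => hxO (hZO hz)⟩
      -- the class of the image has `p`-power size
      set D := centralizer ({π x} : Set (G ⧸ O))
      have hSD : (S : Subgroup G).map π ≤ D := by
        rintro _ ⟨s, hs, rfl⟩
        rw [mem_centralizer_singleton_iff, ← commutatorElement_eq_one_iff_mul_comm,
          ← map_commutatorElement, hπ1]
        exact hxc s hs
      have hTD : (h.tor hπ hxn).map π ≤ D := by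
        rintro _ ⟨s, hs, rfl⟩
        rw [mem_centralizer_singleton_iff, ← map_mul, ← map_mul,
          mem_centralizer_singleton_iff.1 hs.1]
      have hDp : ∀ s : ℕ, s.Prime → s ∣ D.index → s = p := by
        intro s hs hd
        rcases htor hxn s hs ((hd.trans (index_dvd_of_le hTD)).trans
          (index_map_dvd _ hπs)) with e | rfl
        · exact e
        · exact absurd ((hd.trans (index_dvd_of_le hSD)).trans (index_map_dvd _ hπs))
            S.not_dvd_index
      have hxĀ : π x ∈ Ā := hxA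
      have hcent : centralizer ({⟨π x, hxĀ⟩} : Set Ā) = D.subgroupOf Ā := by
        ext a
        rw [mem_centralizer_singleton_iff, mem_subgroupOf, mem_centralizer_singleton_iff,
          Subtype.ext_iff]
        rfl
      obtain ⟨k, hk⟩ : ∃ k, (D.subgroupOf Ā).index = p ^ k :=
        ⟨_, Nat.eq_prime_pow_of_unique_prime_dvd index_ne_zero_of_finite fun hs hd =>
          hDp _ hs (hd.trans (relIndex_dvd_index_of_normal' D Ā))⟩
      exact comm_of_charSimple hp hchar (x := ⟨π x, hxĀ⟩)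
        (fun e => hxO ((hπ1 x).1 (congrArg Subtype.val e))) (hcent ▸ hk)
    · set T := (h.tor hπ hx₀).map π with hT
      have hTcard : Nat.card (T.subgroupOf Ā) ∣ Nat.card (h.tor hπ hx₀) := by
        have e : (T.subgroupOf Ā).map Ā.subtype = T ⊓ Ā := subgroupOf_map_subtype T Ā
        rw [← card_map_of_injective Ā.subtype_injective, e]
        exact (card_dvd_of_le inf_le_left).trans (card_map_dvd _ π)
      have hsol : Group.IsSolvable Ā := by
        refine isSolvable_of_hasAbelianPCompl hp ⟨T.subgroupOf Ā, ⟨⟨fun a b => ?_⟩⟩,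
          fun hd => h.not_dvd_card_tor hπ hx₀ (hd.trans hTcard), _,
          Nat.eq_prime_pow_of_unique_prime_dvd index_ne_zero_of_finite fun hs hd => ?_⟩
        · obtain ⟨a', ha', ea⟩ := mem_subgroupOf.1 a.2
          obtain ⟨b', hb', eb⟩ := mem_subgroupOf.1 b.2
          refine Subtype.ext (Subtype.ext ?_)
          show ((a : Ā) : G ⧸ O) * ((b : Ā) : G ⧸ O) = ((b : Ā) : G ⧸ O) * ((a : Ā) : G ⧸ O)
          rw [← ea, ← eb, ← map_mul, ← map_mul, h.tor_comm hπ hx₀ ha' hb']
        · rcases htor hx₀ _ hs ((hd.trans (relIndex_dvd_index_of_normal' T Ā)).trans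
            (index_map_dvd _ hπs)) with e | rfl
          · exact e
          · exact absurd (hd.trans (T.subgroupOf Ā).index_dvd_card) hqA
      intro a b
      have hne : commutator Ā ≠ ⊤ := by
        haveI : Nontrivial Ā := (nontrivial_iff_ne_bot Ā).2 hĀ.1.2
        exact (Group.IsSolvable.commutator_lt_top_of_nontrivial Ā).ne
      have h4 := (hchar (commutator Ā) inferInstance).resolve_right hne
      rw [← commutatorElement_eq_one_iff_mul_comm, ← mem_bot, ← h4, _root_.commutator_def]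
      exact commutator_mem_commutator (mem_top a) (mem_top b)
  -- it is an `s`-group
  obtain ⟨s, hs, hsĀ⟩ := Nat.exists_prime_and_dvd
    (fun e => hĀ.1.2 (card_eq_one.1 e) : Nat.card Ā ≠ 1)
  haveI := Fact.mk hs
  have hexp : ∀ y ∈ Ā, y ^ s = 1 := by
    let Ω : Subgroup (G ⧸ O) :=
      { carrier := {y | y ∈ Ā ∧ y ^ s = 1}
        one_mem' := ⟨one_mem _, one_pow _⟩
        mul_mem' := fun {a b} ha hb => ⟨mul_mem ha.1 hb.1, by
          rw [(show Commute a b from congrArg Subtype.val (hcomm ⟨a, ha.1⟩ ⟨b, hb.1⟩)).mul_pow,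
            ha.2, hb.2, one_mul]⟩
        inv_mem' := fun {a} ha => ⟨inv_mem ha.1, by rw [inv_pow, ha.2, inv_one]⟩ }
    have hΩn : Ω.Normal := ⟨fun y hy g => ⟨hĀ.1.1.conj_mem y hy.1 g,
      by rw [conj_pow, hy.2, mul_one, mul_inv_cancel]⟩⟩
    rcases hmin Ω hΩn (fun y hy => hy.1) with e | e
    · obtain ⟨z, hz⟩ := exists_prime_orderOf_dvd_card' s hsĀ
      have h1 : (z : G ⧸ O) ∈ Ω := ⟨z.2, by
        rw [← SubgroupClass.coe_pow, ← hz, pow_orderOf_eq_one]; rfl⟩
      rw [e, mem_bot, OneMemClass.coe_eq_one] at h1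
      rw [h1, orderOf_one] at hz
      exact absurd hz hs.one_lt.ne
    · intro y hy
      exact (e.symm ▸ hy : y ∈ Ω).2
  have hĀp : IsPGroup s Ā := fun y => ⟨1, Subtype.ext (by
    rw [pow_one, SubgroupClass.coe_pow, OneMemClass.coe_one]; exact hexp _ y.2)⟩
  have hrelA : O.relIndex A = Nat.card Ā := by
    have h1 := relIndex_comap (⊥ : Subgroup (G ⧸ O)) π A
    rw [MonoidHom.comap_bot, QuotientGroup.ker_mk', hAdef,
      map_comap_eq_self_of_surjective hπs, relIndex_bot_left] at h1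
    exact h1
  have hsp : s ≠ p := by
    rintro rfl
    obtain ⟨k, hk⟩ := IsPGroup.iff_card.1 hĀp
    exact hAO (hOmax A inferInstance hOA ⟨k, hrelA.trans hk⟩).le
  -- its Sylow subgroup
  obtain ⟨P0⟩ := (inferInstance : Nonempty (Sylow s A))
  set A0 := (P0 : Subgroup A).map A.subtype with hA0
  have hA0A : A0 ≤ A := map_subtype_le _
  have hA0p : IsPGroup s A0 := P0.isPGroup'.map _
  have hsup : A ≤ O ⊔ A0 := by
    have h1 : ((O ⊔ A0).subgroupOf A).index ∣ (P0 : Subgroup A).index :=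
      index_dvd_of_le fun a ha => mem_subgroupOf.2 (mem_sup_right ⟨a, ha, rfl⟩)
    obtain ⟨k, hk⟩ := IsPGroup.iff_card.1 hĀp
    have h2 : (O ⊔ A0).relIndex A ∣ s ^ k := by
      rw [← hk, ← hrelA]
      exact relIndex_dvd_of_le_left A le_sup_left
    rcases (Nat.dvd_prime_pow hs).1 h2 with ⟨j, -, hj⟩
    rcases j with _ | j
    · exact relIndex_eq_one.1 (by simpa using hj)
    · exact absurd ((hj ▸ dvd_pow_self s (Nat.succ_ne_zero j) :
        s ∣ (O ⊔ A0).relIndex A).trans h1) P0.not_dvd_index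
  have hA0O : ¬ A0 ≤ O := fun hle => hAO (hsup.trans (sup_le le_rfl hle))
  obtain ⟨R, hA0R⟩ := hA0p.exists_le_sylow
  have hRnorm : ∀ r ∈ (R : Subgroup G), ∀ a ∈ A0, r * a * r⁻¹ ∈ A0 := by
    intro r hr a ha
    have h1 : (P0 : Subgroup A) ≤ (R : Subgroup G).subgroupOf A := fun b hb => hA0R ⟨b, hb, rfl⟩
    have h2 := P0.3 (R.isPGroup'.comap_of_injective A.subtype Subtype.coe_injective) h1
    have h3 : (⟨r * a * r⁻¹, (inferInstance : A.Normal).conj_mem a (hA0A ha) r⟩ : A) ∈
        (R : Subgroup G).subgroupOf A := mul_mem (mul_mem hr (hA0R ha)) (inv_mem hr)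
    exact ⟨_, (SetLike.ext_iff.1 h2 _).1 h3, rfl⟩
  obtain ⟨x, hxA0, hxn', hxc⟩ := exists_central_mod (center G) R.isPGroup' hA0p
    (fun hle => hA0O (hle.trans hZO)) hRnorm
  obtain ⟨v, hv⟩ := IsPGroup.iff_orderOf.1 hA0p ⟨x, hxA0⟩
  rw [Subgroup.orderOf_mk] at hv
  have hx : NR p x := ⟨hv ▸ Nat.Coprime.pow_left v ((Nat.coprime_primes hs hp).2 hsp), hxn'⟩
  set C := centralizer ({x} : Set G) with hC
  set T := h.tor hπ hx with hT
  set N := normalizer (T : Set G) with hN
  have hRN : (R : Subgroup G) ≤ N := by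
    intro r hr
    refine h.mem_normalizer hπ hx (h.self_mem_tor hπ hx) hx.2 ?_
    have e : r * x * r⁻¹ = ⁅r, x⁆ * x := by rw [commutatorElement_def]; group
    rw [e]
    exact mul_mem (center_le_centralizer' x (hxc r hr)) (self_mem_centralizer x)
  -- `A0` lies in the centraliser
  have hA0C : A0 ≤ C := by
    obtain ⟨r, hr, -, hrs, y₀, v₀, hy₀, hy⟩ := hπ s hs
    obtain ⟨t, htC, w, hto, htn⟩ := h.exists_primary_in hx hr hy₀ hy
    have htT : t ∈ T := ⟨htC, htn.1⟩
    intro a ha
    have haN := hRN (hA0R ha)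
    have haT : a * t * a⁻¹ ∈ T := (mem_normalizer_iff.1 haN t).1 htT
    set z := a * t * a⁻¹ * t⁻¹ with hz
    have hzT : z ∈ T := mul_mem haT (inv_mem htT)
    have hzA : z ∈ A := by
      have e : z = a * (t * a⁻¹ * t⁻¹) := by rw [hz]; group
      rw [e]
      exact mul_mem (hA0A ha) ((inferInstance : A.Normal).conj_mem _ (inv_mem (hA0A ha)) t)
    have hzr : z ^ r ^ w = 1 := by
      have hcm : Commute (a * t * a⁻¹) t⁻¹ := h.tor_comm hπ hx haT (inv_mem htT)
      rw [hz, hcm.mul_pow, conj_pow, inv_pow, ← hto, pow_orderOf_eq_one, mul_one, mul_inv_cancel,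
        inv_one, one_mul]
    have hzO : z ∈ O := by
      rw [← hπ1, ← orderOf_eq_one_iff]
      refine Nat.eq_one_of_dvd_coprimes (Nat.Coprime.pow w 1 ((Nat.coprime_primes hr hs).2 hrs))
        (orderOf_dvd_of_pow_eq_one (by rw [← map_pow, hzr, map_one]))
        (orderOf_dvd_of_pow_eq_one (by rw [pow_one]; exact hexp _ hzA))
    have hzZ : z ∈ center G := hOreg z hzO hzT.2
    have hiter : ∀ k : ℕ, a ^ k * t * (a ^ k)⁻¹ = z ^ k * t := by
      intro k
      induction k with
      | zero => simp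
      | succ k ih =>
        have hca : Commute a (z ^ k) := (show Commute a z from mem_center_iff.1 hzZ a).pow_right k
        calc a ^ (k + 1) * t * (a ^ (k + 1))⁻¹ = a * (a ^ k * t * (a ^ k)⁻¹) * a⁻¹ := by
              rw [pow_succ']; group
          _ = (a * z ^ k) * t * a⁻¹ := by rw [ih]; group
          _ = z ^ k * (a * t * a⁻¹) := by rw [hca.eq]; group
          _ = z ^ (k + 1) * t := by
              rw [pow_succ, mul_assoc (z ^ k), hz, inv_mul_cancel_right]
    obtain ⟨j, hj⟩ := IsPGroup.iff_orderOf.1 hA0p ⟨a, ha⟩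
    rw [Subgroup.orderOf_mk] at hj
    have h1 := hiter (s ^ j)
    rw [← hj, pow_orderOf_eq_one, inv_one, one_mul, mul_one, hj, right_eq_mul] at h1
    have hz1 : z = 1 := by
      rw [← orderOf_eq_one_iff]
      exact Nat.eq_one_of_dvd_coprimes (Nat.Coprime.pow w j ((Nat.coprime_primes hr hs).2 hrs))
        (orderOf_dvd_of_pow_eq_one hzr) (orderOf_dvd_of_pow_eq_one h1)
    rw [hC, ← h.eq_of_mem hπ hx htn htC, mem_centralizer_singleton_iff]
    rw [hz, mul_inv_eq_one] at hz1
    exact mul_inv_eq_iff_eq_mul.1 hz1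
  -- Frattini
  have hNO : ∀ g : G, ∃ o ∈ O, ∃ n ∈ N, g = o * n := by
    intro g
    have h1 : normalizer (A0 : Set G) ≤ N := by
      intro g hg
      exact h.mem_normalizer hπ hx (h.self_mem_tor hπ hx) hx.2
        (hA0C ((mem_normalizer_iff.1 hg x).1 hxA0))
    have h2 : (⊤ : Subgroup G) ≤ O ⊔ N := by
      rw [← Sylow.normalizer_sup_eq_top P0]
      refine sup_le (h1.trans le_sup_right) (hsup.trans (sup_le le_sup_left ?_))
      exact (hA0R.trans hRN).trans le_sup_right
    have hg' := h2 (mem_top g)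
    rw [← SetLike.mem_coe, normal_mul, Set.mem_mul] at hg'
    obtain ⟨o, ho, n, hn, e⟩ := hg'
    exact ⟨o, ho, n, hn, e.symm⟩
  -- `O ∩ N` centralises the torus
  have hON : ∀ g ∈ O, g ∈ N → g ∈ C := by
    intro g hgO hgN
    rw [hC, ← h.centralizer_tor hπ hx, mem_centralizer_iff]
    intro t ht
    have hzT : g * t * g⁻¹ * t⁻¹ ∈ T := mul_mem ((mem_normalizer_iff.1 hgN t).1 ht) (inv_mem ht)
    set z := g * t * g⁻¹ * t⁻¹ with hz
    have hzO : z ∈ O := by
      have e : z = g * (t * g⁻¹ * t⁻¹) := by rw [hz]; group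
      rw [e]
      exact mul_mem hgO (hOn.conj_mem _ (inv_mem hgO) t)
    have hzZ : z ∈ center G := hOreg z hzO hzT.2
    have hiter : ∀ k : ℕ, g ^ k * t * (g ^ k)⁻¹ = z ^ k * t := by
      intro k
      induction k with
      | zero => simp
      | succ k ih =>
        have hca : Commute g (z ^ k) := (show Commute g z from mem_center_iff.1 hzZ g).pow_right k
        calc g ^ (k + 1) * t * (g ^ (k + 1))⁻¹ = g * (g ^ k * t * (g ^ k)⁻¹) * g⁻¹ := by
              rw [pow_succ']; group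
          _ = (g * z ^ k) * t * g⁻¹ := by rw [ih]; group
          _ = z ^ k * (g * t * g⁻¹) := by rw [hca.eq]; group
          _ = z ^ (k + 1) * t := by
              rw [pow_succ, mul_assoc (z ^ k), hz, inv_mul_cancel_right]
    have h1 := hiter (p ^ kO)
    rw [← (mem_center_iff.1 (hOpow g hgO) t), mul_inv_cancel_right, right_eq_mul] at h1
    have hz1 : z = 1 := by
      rw [← orderOf_eq_one_iff]
      exact Nat.eq_one_of_dvd_coprimes (hzT.2.pow_right kO) dvd_rfl (orderOf_dvd_of_pow_eq_one h1)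
    rw [hz, mul_inv_eq_one, mul_inv_eq_iff_eq_mul] at hz1
    exact hz1.symm
  -- the contradiction
  have hCN : C ≤ N := fun g hg => h.mem_normalizer hπ hx (h.self_mem_tor hπ hx) hx.2
    (by rw [mem_centralizer_singleton_iff.1 hg, mul_inv_cancel_right]; exact self_mem_centralizer x)
  obtain ⟨u, ⟨b, hub⟩, huN, huC⟩ := h.exists_normalizing hπ hx hq hqp
    (h.index_eq hπ hx₀ hx ▸ hqm)
  have hun : NR p u := ⟨hub ▸ Nat.Coprime.pow_left b ((Nat.coprime_primes hq hp).2 hqp),
    fun hz => huC (center_le_centralizer' x hz)⟩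
  obtain ⟨r, hr, -, hrq, y₀, v₀, hy₀, hy0⟩ := hπ q hq
  obtain ⟨y, hyU, w, hyo, hyn⟩ := h.exists_primary_in hun hr hy₀ hy0
  haveI := Fact.mk hr
  have hrp : r ≠ p := by
    rintro rfl
    rcases w with _ | w
    · rw [pow_zero, orderOf_eq_one_iff] at hyo
      exact hyn.2 (hyo ▸ one_mem _)
    · have h1 := hyn.1
      rw [hyo, Nat.coprime_pow_left_iff (Nat.succ_pos w), Nat.coprime_self] at h1
      exact hr.one_lt.ne' h1
  set K := O ⊔ C with hK
  have hKN : ∀ g ∈ K, g ∈ N → g ∈ C := by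
    intro g hg hgN
    rw [hK, ← SetLike.mem_coe, normal_mul, Set.mem_mul] at hg
    obtain ⟨o, ho, k, hk, rfl⟩ := hg
    refine mul_mem (hON o ho ?_) hk
    simpa using mul_mem hgN (inv_mem (hCN hk))
  have hKn : K.Normal := by
    refine ⟨fun k hk g => ?_⟩
    obtain ⟨o, ho, n, hn, rfl⟩ := hNO g
    rw [hK, ← SetLike.mem_coe, normal_mul, Set.mem_mul] at hk
    obtain ⟨o', ho', k', hk', rfl⟩ := hk
    have hk'' : n * k' * n⁻¹ ∈ C := by
      rw [hC, ← h.centralizer_tor hπ hx, mem_centralizer_iff]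
      intro t ht
      have ht' : n⁻¹ * t * n ∈ (T : Set G) := (mem_normalizer_iff'' (g := n)).1 hn t |>.1 ht
      have e := mem_centralizer_iff.1 (show k' ∈ centralizer (T : Set G) by rw [h.centralizer_tor hπ hx]; exact hk') _ ht'
      calc t * (n * k' * n⁻¹) = n * ((n⁻¹ * t * n) * k') * n⁻¹ := by group
        _ = n * (k' * (n⁻¹ * t * n)) * n⁻¹ := by rw [e]
        _ = n * k' * n⁻¹ * t := by group
    have e : o * n * (o' * k') * (o * n)⁻¹ =
        o * (n * o' * n⁻¹) * (n * k' * n⁻¹) * o⁻¹ := by group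
    rw [e]
    exact mul_mem (mul_mem (mul_mem (mem_sup_left ho) (mem_sup_left (hOn.conj_mem o' ho' n)))
      (mem_sup_right hk'')) (inv_mem (mem_sup_left ho))
  obtain ⟨o, ho, n, hn, rfl⟩ := hNO y
  have hnC : n ∈ C := by
    refine h.kill hπ hx hq hqp hub huN huC hn ?_ (n := r ^ w) ?_
      (Nat.Coprime.pow_left w ((Nat.coprime_primes hr hq).2 hrq))
    · refine hKN _ ?_ (mul_mem (mul_mem (mul_mem hn huN) (inv_mem hn)) (inv_mem huN))
      rw [← QuotientGroup.eq_one_iff]
      show QuotientGroup.mk' K ⁅n, u⁆ = 1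
      have e : QuotientGroup.mk' K n = QuotientGroup.mk' K (o * n) := by
        rw [map_mul, show QuotientGroup.mk' K o = 1 from
          (QuotientGroup.eq_one_iff o).2 (mem_sup_left ho), one_mul]
      rw [map_commutatorElement, e, ← map_commutatorElement,
        commutatorElement_eq_one_iff_mul_comm.2 (mem_centralizer_singleton_iff.1 hyU), map_one]
    · refine hKN _ ?_ (pow_mem hn _)
      rw [← QuotientGroup.eq_one_iff, QuotientGroup.mk_pow]
      have e : (QuotientGroup.mk n : G ⧸ K) = QuotientGroup.mk (o * n) := by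
        rw [QuotientGroup.mk_mul, (QuotientGroup.eq_one_iff o).2 (mem_sup_left ho), one_mul]
      rw [e, ← QuotientGroup.mk_pow, ← hyo, pow_orderOf_eq_one, QuotientGroup.mk_one]
  -- `y` is conjugate into the centraliser inside `K`
  set y := o * n with hy'
  have hyK : y ∈ K := mul_mem (mem_sup_left ho) (mem_sup_right hnC)
  let CK := C.subgroupOf K
  have hCKi : ¬ r ∣ CK.index := by
    intro hd
    have h1 := Solvable.card_sup_mul_card_inf C O
    have h2 : Nat.card C * CK.index = Nat.card K := Solvable.card_mul_relIndex le_sup_right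
    have hZ : center G ≤ C ⊓ O := le_inf (center_le_centralizer' x) hZO
    have h3 : Nat.card (center G) * p ^ kO = Nat.card O := by
      rw [← hkO]; exact Solvable.card_mul_relIndex hZO
    obtain ⟨e, he⟩ := card_dvd_of_le hZ
    rw [sup_comm, ← hK, ← h2, he, ← h3] at h1
    have h4 : CK.index * e = p ^ kO := by
      refine Nat.eq_of_mul_eq_mul_left
        (Nat.mul_pos (Nat.card_pos (α := C)) (Nat.card_pos (α := center G))) ?_
      calc _ = Nat.card C * CK.index * (Nat.card (center G) * e) := by ring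
        _ = _ := h1
        _ = _ := by ring
    exact hrp ((Nat.prime_dvd_prime_iff_eq hr hp).1 (hr.dvd_of_dvd_pow
      (hd.trans (h4 ▸ dvd_mul_right _ _))))
  obtain ⟨cs, hcs⟩ := (IsPGroup.of_card (p := r) (n := w) (G := zpowers (⟨y, hyK⟩ : K))
    (by rw [Nat.card_zpowers, Subgroup.orderOf_mk, hyo])).nonempty_fixed_point_of_prime_not_dvd_card
      (K ⧸ CK) hCKi
  obtain ⟨k, rfl⟩ := QuotientGroup.mk_surjective cs
  have hfix := hcs ⟨⟨y, hyK⟩, mem_zpowers _⟩
  change QuotientGroup.mk (⟨y, hyK⟩ * k) = QuotientGroup.mk k at hfix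
  rw [QuotientGroup.eq] at hfix
  have hfix' : ((⟨y, hyK⟩ * k)⁻¹ * k : K).1 ∈ C := hfix
  have hyc : (k : G)⁻¹ * y * k ∈ C := by
    have := inv_mem hfix'
    simpa [mul_assoc] using this
  have hyn' : NR p ((k : G)⁻¹ * y * k) := by
    have ho : orderOf ((k : G)⁻¹ * y * k) = orderOf y := by
      have := MulEquiv.orderOf_eq (MulAut.conj (k : G)⁻¹) y
      simpa using this
    refine ⟨ho ▸ hyn.1, fun hz => hyn.2 ?_⟩
    have h1 := Subgroup.Normal.conj_mem (inferInstance : (center G).Normal) _ hz (k : G)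
    simpa [mul_assoc] using h1
  have e1 := h.eq_of_mem hπ hx hyn' hyc
  have hku : (k : G)⁻¹ * u * k ∈ C := by
    rw [hC, ← e1, mem_centralizer_singleton_iff]
    calc (k : G)⁻¹ * u * k * ((k : G)⁻¹ * y * k) = (k : G)⁻¹ * (u * y) * k := by group
      _ = (k : G)⁻¹ * (y * u) * k := by rw [← mem_centralizer_singleton_iff.1 hyU]
      _ = (k : G)⁻¹ * y * k * ((k : G)⁻¹ * u * k) := by group
  refine huC (hKN u ?_ huN)
  have h1 := mul_mem (mul_mem k.2 (mem_sup_right hku : _ ∈ K)) (inv_mem k.2)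
  simpa [mul_assoc] using h1

end Cfsg.Agent.FGS76.TwoPReg.TwoSizes
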