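import Cfsg.Agent.FGS76.TwoPReg.Base

/-!
All `p`-regular elements of order prime to `q` central: the group is `PQ × A`.
-/

set_option autoImplicit false
set_option linter.unusedSectionVars false

namespace Cfsg.Agent.FGS76.TwoPReg

open Subgroup

variable {G : Type*} [Group G] [Finite G] {p q : ℕ} [Fact p.Prime] [Fact q.Prime]

theorem one_prime (hqp : q ≠ p)
    (hc : ∀ (g : G) (s v : ℕ), s.Prime → s ≠ p → s ≠ q → orderOf g = s ^ v → g ∈ center G) :
    ∃ (P : Sylow p G) (Q : Sylow q G) (A : Subgroup G),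
        A ≤ center G ∧ Nat.card ↥((P : Subgroup G) ⊔ (Q : Subgroup G)) = Nat.card P * Nat.card Q ∧
        ((P : Subgroup G) ⊔ (Q : Subgroup G)).Normal ∧
        ((P : Subgroup G) ⊔ (Q : Subgroup G)) ⊓ A = ⊥ ∧ ((P : Subgroup G) ⊔ (Q : Subgroup G)) ⊔ A = ⊤ := by
  classical
  have hp : p.Prime := Fact.out
  have hq : q.Prime := Fact.out
  let A : Subgroup G :=
    { carrier := {g | g ∈ center G ∧ (orderOf g).Coprime (p * q)}
      one_mem' := ⟨one_mem _, by rw [orderOf_one]; exact Nat.coprime_one_left _⟩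
      mul_mem' := fun {a b} ha hb => ⟨mul_mem ha.1 hb.1,
        Nat.Coprime.coprime_dvd_left
          ((show Commute a b from mem_center_iff.1 hb.1 a).orderOf_mul_dvd_lcm.trans
            (Nat.lcm_dvd_mul _ _)) (ha.2.mul_left hb.2)⟩
      inv_mem' := fun {a} ha => ⟨inv_mem ha.1, by rw [orderOf_inv]; exact ha.2⟩ }
  have hAc : A ≤ center G := fun g hg => hg.1
  haveI : A.Normal := ⟨fun n hn g => by
    rw [mem_center_iff.1 hn.1 g, mul_inv_cancel_right]; exact hn⟩
  have hcardA : ∀ s : ℕ, s.Prime → s ∣ Nat.card A → s ≠ p ∧ s ≠ q := by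
    intro s hs hd
    haveI := Fact.mk hs
    obtain ⟨a, ha⟩ := exists_prime_orderOf_dvd_card' s hd
    have h1 := a.2.2
    rw [Subgroup.orderOf_coe, ha, Nat.coprime_mul_iff_right, Nat.coprime_primes hs hp,
      Nat.coprime_primes hs hq] at h1
    exact h1
  have hindA : ∀ s : ℕ, s.Prime → s ∣ A.index → s = p ∨ s = q := by
    intro s hs hd
    by_contra hne
    push Not at hne
    haveI := Fact.mk hs
    obtain ⟨S⟩ := (inferInstance : Nonempty (Sylow s G))
    refine S.not_dvd_index (hd.trans (index_dvd_of_le fun g hg => ?_))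
    obtain ⟨v, hv⟩ := IsPGroup.iff_orderOf.1 S.isPGroup' ⟨g, hg⟩
    rw [Subgroup.orderOf_mk] at hv
    refine ⟨hc g s v hs hne.1 hne.2 hv, hv ▸ Nat.Coprime.pow_left v ?_⟩
    rw [Nat.coprime_mul_iff_right, Nat.coprime_primes hs hp, Nat.coprime_primes hs hq]
    exact hne
  have hcop : (Nat.card A).Coprime A.index := by
    refine Nat.coprime_of_dvd fun s hs h1 h2 => ?_
    rcases hindA s hs h2 with rfl | rfl
    · exact (hcardA s hs h1).1 rfl
    · exact (hcardA s hs h1).2 rfl
  obtain ⟨H, hH⟩ := exists_right_complement'_of_coprime hcop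
  have hHn : H.Normal := ⟨fun k hk g => by
    obtain ⟨⟨a, b⟩, hab, -⟩ := hH.existsUnique g
    have hab' : (a : G) * b = g := hab
    have ha : ∀ z : G, (a : G) * z = z * a := fun z => (mem_center_iff.1 (hAc a.2) z).symm
    have e : g * k * g⁻¹ = (b : G) * k * (b : G)⁻¹ := by
      rw [← hab', mul_inv_rev]
      calc (a : G) * b * k * ((b : G)⁻¹ * (a : G)⁻¹) = (a : G) * ((b : G) * k * (b : G)⁻¹) * (a : G)⁻¹ := by group
        _ = _ := by rw [ha, mul_inv_cancel_right]
    rw [e]
    exact mul_mem (mul_mem b.2 hk) (inv_mem b.2)⟩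
  haveI := hHn
  have hHi : H.index = Nat.card A := hH.index_eq_card
  have hHc : Nat.card H = A.index := (hH.symm.index_eq_card).symm
  have hle : ∀ (l : ℕ) [Fact l.Prime] (L : Sylow l G), (l = p ∨ l = q) → (L : Subgroup G) ≤ H := by
    intro l hl L hlpq g hg
    obtain ⟨v, hv⟩ := IsPGroup.iff_orderOf.1 L.isPGroup' ⟨g, hg⟩
    rw [Subgroup.orderOf_mk] at hv
    rw [← QuotientGroup.eq_one_iff, ← orderOf_eq_one_iff]
    refine Nat.eq_one_of_dvd_coprimes (a := l ^ v) (b := H.index) ?_ ?_ ?_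
    · refine Nat.Coprime.pow_left v (hl.out.coprime_iff_not_dvd.2 fun hd => ?_)
      have h1 := hcardA l hl.out (hHi ▸ hd)
      tauto
    · exact hv ▸ orderOf_map_dvd (QuotientGroup.mk' H) g
    · exact orderOf_dvd_natCard _
  obtain ⟨P⟩ := (inferInstance : Nonempty (Sylow p G))
  obtain ⟨Q⟩ := (inferInstance : Nonempty (Sylow q G))
  have hPQ : (P : Subgroup G) ⊔ (Q : Subgroup G) = H := by
    refine le_antisymm (sup_le (hle p P (Or.inl rfl)) (hle q Q (Or.inr rfl))) (relIndex_eq_one.1 ?_)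
    by_contra hne
    obtain ⟨s, hs, hd⟩ := Nat.exists_prime_and_dvd hne
    have hsH : s ∣ A.index := hHc ▸ hd.trans (index_dvd_card _)
    have hd' : s ∣ ((P : Subgroup G) ⊔ (Q : Subgroup G)).index := by
      rw [← relIndex_mul_index (sup_le (hle p P (Or.inl rfl)) (hle q Q (Or.inr rfl)))]
      exact hd.mul_right _
    rcases hindA s hs hsH with rfl | rfl
    · exact P.not_dvd_index (hd'.trans (index_dvd_of_le le_sup_left))
    · exact Q.not_dvd_index (hd'.trans (index_dvd_of_le le_sup_right))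
  refine ⟨P, Q, A, hAc, ?_, hPQ ▸ hHn, ?_, ?_⟩
  · rw [hPQ]
    have hPp : ∀ s : ℕ, s.Prime → s ∣ (P : Subgroup G).relIndex H → s = q := by
      intro s hs hd
      rcases hindA s hs (hHc ▸ hd.trans (index_dvd_card _)) with rfl | h1
      · refine absurd ?_ P.not_dvd_index
        rw [← relIndex_mul_index (hle s P (Or.inl rfl))]
        exact hd.mul_right _
      · exact h1
    have h1 := Solvable.card_mul_relIndex (hle p P (Or.inl rfl))
    have h2 := Nat.eq_prime_pow_of_unique_prime_dvd (n := (P : Subgroup G).relIndex H) (p := q)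
      (fun h0 => (Nat.card_pos (α := H)).ne (by rw [← h1, h0, mul_zero])) (fun {s} hs hd => hPp s hs hd)
    rw [← h1]
    congr 1
    refine Nat.dvd_antisymm ?_ ?_
    · rw [h2, Q.card_eq_multiplicity]
      refine pow_dvd_pow q ((Fact.out : q.Prime).pow_dvd_iff_le_factorization Nat.card_pos.ne' |>.1 ?_)
      rw [← h2]
      exact (relIndex_dvd_card _ _).trans (Subgroup.card_subgroup_dvd_card H)
    · refine Nat.Coprime.dvd_of_dvd_mul_left ?_ (h1.symm ▸ card_dvd_of_le (hle q Q (Or.inr rfl)))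
      rw [P.card_eq_multiplicity, Q.card_eq_multiplicity]
      exact Nat.coprime_pow_primes _ _ hq hp hqp
  · rw [hPQ]; exact hH.symm.isCompl.inf_eq_bot
  · rw [hPQ]; exact hH.symm.isCompl.sup_eq_top

end Cfsg.Agent.FGS76.TwoPReg
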