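import Cfsg.Agent.FGS76.Basic
import Cfsg.Agent.Lib.Solvable.Basic

/-!
Finite groups whose `p`-regular classes have two sizes: centralisers.
-/

set_option autoImplicit false
set_option linter.unusedSectionVars false

namespace Cfsg.Agent.FGS76.TwoPReg

open Subgroup
open scoped commutatorElement

/-- The non-central `p`-regular elements. -/
def NR (p : ℕ) {G : Type*} [Group G] (x : G) : Prop :=
  (orderOf x).Coprime p ∧ x ∉ center G

/-- All non-central `p`-regular elements have centralisers of the same order. -/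
structure TwoSizes (p c : ℕ) (G : Type*) [Group G] : Prop where
  prime : p.Prime
  exists_nr : ∃ x : G, NR p x
  card_eq : ∀ x : G, NR p x → Nat.card (centralizer ({x} : Set G)) = c

variable {G : Type*} [Group G] [Finite G] {p c : ℕ}

/-- An element outside a subgroup has a power of prime power order outside it. -/
theorem exists_primary (H : Subgroup G) {g : G} (hg : g ∉ H) :
    ∃ s : ℕ, s.Prime ∧ s ∣ orderOf g ∧ ∃ k v : ℕ, orderOf (g ^ k) = s ^ v ∧ g ^ k ∉ H := by
  classical
  have hex : ∃ n, 0 < n ∧ g ^ n ∈ H :=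
    ⟨orderOf g, orderOf_pos g, by rw [pow_orderOf_eq_one]; exact one_mem _⟩
  obtain ⟨hd0, hdH⟩ := Nat.find_spec hex
  set d := Nat.find hex with hd
  have hdvd : ∀ n, g ^ n ∈ H → d ∣ n := by
    intro n hn
    have h1 : g ^ (n % d) ∈ H := by
      have e : g ^ (n % d) = ((g ^ d) ^ (n / d))⁻¹ * g ^ n := by
        rw [eq_inv_mul_iff_mul_eq, ← pow_mul, ← pow_add, Nat.div_add_mod]
      rw [e]
      exact mul_mem (inv_mem (pow_mem hdH _)) hn
    by_contra hnd
    have h2 : 0 < n % d := Nat.pos_of_ne_zero fun h => hnd (Nat.dvd_of_mod_eq_zero h)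
    exact Nat.find_min hex (Nat.mod_lt n hd0) ⟨h2, h1⟩
  have hd1 : d ≠ 1 := fun h => hg (by rw [← pow_one g, ← h]; exact hdH)
  obtain ⟨s, hs, hsd⟩ := Nat.exists_prime_and_dvd hd1
  have hsn : s ∣ orderOf g := hsd.trans (hdvd _ (by rw [pow_orderOf_eq_one]; exact one_mem _))
  refine ⟨s, hs, hsn, orderOf g / s ^ (orderOf g).factorization s, (orderOf g).factorization s,
    ?_, fun h => ?_⟩
  · exact orderOf_pow_orderOf_div (orderOf_pos g).ne' (Nat.ordProj_dvd _ s)
  · exact Nat.not_dvd_ordCompl hs (orderOf_pos g).ne' (hsd.trans (hdvd _ h))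

theorem centralizer_le_pow (x : G) (k : ℕ) :
    centralizer ({x} : Set G) ≤ centralizer ({x ^ k} : Set G) := fun g hg => by
  rw [mem_centralizer_singleton_iff] at hg ⊢
  exact (show Commute g x from hg).pow_right k

theorem self_mem_centralizer (x : G) : x ∈ centralizer ({x} : Set G) :=
  mem_centralizer_singleton_iff.2 rfl

theorem center_le_centralizer' (x : G) : center G ≤ centralizer ({x} : Set G) := fun g hg =>
  mem_centralizer_singleton_iff.2 (mem_center_iff.1 hg x).symm

/-- A `q`-subgroup outside a normal subgroup, normalised by a `q`-group, has an element fixed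
modulo the normal subgroup. -/
theorem exists_central_mod {q : ℕ} [Fact q.Prime] {R A : Subgroup G} (K : Subgroup G) [K.Normal]
    (hR : IsPGroup q R) (hA : IsPGroup q A) (hAK : ¬ A ≤ K)
    (hnorm : ∀ r ∈ R, ∀ a ∈ A, r * a * r⁻¹ ∈ A) :
    ∃ a ∈ A, a ∉ K ∧ ∀ r ∈ R, ⁅r, a⁆ ∈ K := by
  classical
  let π := QuotientGroup.mk' K
  let X := A.map π
  let Y := R.map π
  have hinv : ∀ (r : Y) (z : X), (r : G ⧸ K) * z * (r : G ⧸ K)⁻¹ ∈ X := by
    rintro ⟨_, r, hr, rfl⟩ ⟨_, a, ha, rfl⟩
    exact ⟨r * a * r⁻¹, hnorm r hr a ha, by simp⟩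
  letI act : MulAction Y X :=
    { smul := fun r z => ⟨(r : G ⧸ K) * z * (r : G ⧸ K)⁻¹, hinv r z⟩
      one_smul := fun z => Subtype.ext (show (1 : G ⧸ K) * z * 1⁻¹ = z by group)
      mul_smul := fun r r' z => Subtype.ext (show ((r : G ⧸ K) * r') * z * ((r : G ⧸ K) * r')⁻¹ =
        (r : G ⧸ K) * ((r' : G ⧸ K) * z * (r' : G ⧸ K)⁻¹) * (r : G ⧸ K)⁻¹ by group) }
  have hX1 : X ≠ ⊥ := fun e => hAK fun a ha => by
    have h1 : π a ∈ (⊥ : Subgroup (G ⧸ K)) := e ▸ mem_map_of_mem π ha
    exact (QuotientGroup.eq_one_iff a).1 (mem_bot.1 h1)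
  have hXp : IsPGroup q X := hA.map π
  obtain ⟨k, hk⟩ := IsPGroup.iff_card.1 hXp
  have hdvd : q ∣ Nat.card X := by
    rcases k with _ | k
    · exact absurd (card_eq_one.1 (by simpa using hk)) hX1
    · rw [hk]; exact dvd_pow_self q (Nat.succ_ne_zero k)
  obtain ⟨⟨_, a, ha, rfl⟩, hb, hne⟩ := (hR.map π).exists_fixed_point_of_prime_dvd_card_of_fixed_point
    X hdvd (a := (1 : X)) (fun r => Subtype.ext (show (r : G ⧸ K) * 1 * (r : G ⧸ K)⁻¹ = 1 by group))
  refine ⟨a, ha, fun haK => hne ?_, fun r hr => ?_⟩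
  · exact Subtype.ext ((QuotientGroup.eq_one_iff a).2 haK).symm
  · have h1 : π r * π a * (π r)⁻¹ = π a := congrArg Subtype.val (hb ⟨π r, r, hr, rfl⟩)
    rw [← QuotientGroup.eq_one_iff]
    show π ⁅r, a⁆ = 1
    rw [map_commutatorElement, commutatorElement_def, h1, mul_inv_cancel]

namespace TwoSizes

variable (h : TwoSizes p c G)
include h

theorem nr_pow {x : G} (hx : NR p x) {k : ℕ} (hk : x ^ k ∉ center G) : NR p (x ^ k) :=
  ⟨hx.1.coprime_dvd_left (orderOf_pow_dvd k), hk⟩

theorem centralizer_eq_of_le {x y : G} (hx : NR p x) (hy : NR p y)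
    (hle : centralizer ({x} : Set G) ≤ centralizer ({y} : Set G)) :
    centralizer ({x} : Set G) = centralizer ({y} : Set G) :=
  eq_of_le_of_card_ge hle (by rw [h.card_eq x hx, h.card_eq y hy])

theorem centralizer_pow {x : G} (hx : NR p x) {k : ℕ} (hk : x ^ k ∉ center G) :
    centralizer ({x ^ k} : Set G) = centralizer ({x} : Set G) :=
  (h.centralizer_eq_of_le hx (h.nr_pow hx hk) (centralizer_le_pow x k)).symm

theorem coprime_pair {x y : G} (hx : NR p x) (hy : NR p y) (hc : Commute x y)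
    (hco : (orderOf x).Coprime (orderOf y)) :
    centralizer ({x} : Set G) = centralizer ({y} : Set G) := by
  have key : ∀ x y : G, Commute x y → (orderOf x).Coprime (orderOf y) →
      centralizer ({x * y} : Set G) ≤ centralizer ({x} : Set G) := by
    intro x y hc hco
    obtain ⟨m, hm⟩ := exists_pow_eq_self_of_coprime (x := x) (n := orderOf y) hco.symm
    refine (centralizer_le_pow (x * y) (orderOf y * m)).trans (le_of_eq ?_)
    rw [pow_mul, hc.mul_pow, pow_orderOf_eq_one y, mul_one, hm]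
  have h1 := key x y hc hco
  have h2 : centralizer ({x * y} : Set G) ≤ centralizer ({y} : Set G) := by
    rw [hc.eq]; exact key y x hc.symm hco.symm
  have hxy : NR p (x * y) := by
    refine ⟨?_, fun hz => hx.2 (mem_center_iff.2 fun g => ?_)⟩
    · rw [hc.orderOf_mul_eq_mul_orderOf_of_coprime hco]
      exact hx.1.mul_left hy.1
    · exact mem_centralizer_singleton_iff.1 (h1 (mem_centralizer_singleton_iff.2
        (mem_center_iff.1 hz g)))
  rw [← h.centralizer_eq_of_le hxy hx h1, h.centralizer_eq_of_le hxy hy h2]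

/-- A centraliser contains a non-central element of every prime for which there is one. -/
theorem exists_primary_in {x : G} (hx : NR p x) {r : ℕ} (hr : r.Prime) {y₀ : G} {v₀ : ℕ}
    (hy₀ : orderOf y₀ = r ^ v₀) (hy : NR p y₀) :
    ∃ y ∈ centralizer ({x} : Set G), ∃ v : ℕ, orderOf y = r ^ v ∧ NR p y := by
  haveI := Fact.mk hr
  by_contra hne
  push Not at hne
  have hrp : r ≠ p := by
    rintro rfl
    rcases v₀ with _ | v
    · rw [pow_zero, orderOf_eq_one_iff] at hy₀
      exact hy.2 (hy₀ ▸ one_mem _)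
    · have h1 := hy.1
      rw [hy₀, Nat.coprime_pow_left_iff (Nat.succ_pos v), Nat.coprime_self] at h1
      exact hr.one_lt.ne' h1
  obtain ⟨S⟩ := (inferInstance : Nonempty (Sylow r (centralizer ({x} : Set G))))
  set U := (S : Subgroup (centralizer ({x} : Set G))).map (centralizer ({x} : Set G)).subtype
    with hU
  have hUc : U ≤ center G := by
    rintro _ ⟨s, hs, rfl⟩
    obtain ⟨v, hv⟩ := IsPGroup.iff_orderOf.1 S.isPGroup' ⟨s, hs⟩
    rw [← Subgroup.orderOf_coe] at hv
    by_contra hn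
    have hv' : orderOf (s : G) = r ^ v := (Subgroup.orderOf_coe s).trans hv
    exact hne _ s.2 v hv' ⟨hv' ▸ Nat.Coprime.pow_left v ((Nat.coprime_primes hr h.prime).2 hrp), hn⟩
  have hUp : IsPGroup r U := S.isPGroup'.map _
  set D := centralizer ({y₀} : Set G) with hD
  have hUD : U ≤ D := hUc.trans (center_le_centralizer' y₀)
  have hz : IsPGroup r (zpowers y₀) :=
    IsPGroup.of_card (n := v₀) (by rw [Nat.card_zpowers, hy₀])
  have hzD : zpowers y₀ ≤ D := zpowers_le.2 (self_mem_centralizer y₀)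
  obtain ⟨T, hT⟩ := (hz.comap_of_injective D.subtype Subtype.coe_injective).exists_le_sylow
  haveI : (U.subgroupOf D).Normal := ⟨fun u hu g => by
    have h1 : ((g * u * g⁻¹ : D) : G) = (u : G) := by
      rw [Subgroup.coe_mul, Subgroup.coe_mul, Subgroup.coe_inv,
        mem_center_iff.1 (hUc (mem_subgroupOf.1 hu)) g, mul_inv_cancel_right]
    rw [mem_subgroupOf, h1]
    exact hu⟩
  have hUp' : IsPGroup r (U.subgroupOf D) := hUp.comap_of_injective D.subtype Subtype.coe_injective
  have hUT : U.subgroupOf D ≤ T := hUp'.le_sylow_of_normal T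
  have hcard : Nat.card T ≤ Nat.card (U.subgroupOf D) := by
    rw [Nat.card_congr (subgroupOfEquivOfLe hUD).toEquiv, hU,
      card_map_of_injective (subtype_injective _), T.card_eq_multiplicity, S.card_eq_multiplicity,
      h.card_eq x hx, hD, h.card_eq y₀ hy]
  have h1 : (⟨y₀, self_mem_centralizer y₀⟩ : D) ∈ U.subgroupOf D := by
    rw [eq_of_le_of_card_ge hUT hcard]
    exact hT (mem_comap.2 (mem_zpowers y₀))
  exact hy.2 (hUc (mem_subgroupOf.1 h1))

end TwoSizes

/-- Two primes with non-central elements. -/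
def MultiPrime (p : ℕ) (G : Type*) [Group G] : Prop :=
  ∀ l : ℕ, l.Prime → ∃ r : ℕ, r.Prime ∧ r ≠ p ∧ r ≠ l ∧
    ∃ (y : G) (v : ℕ), orderOf y = r ^ v ∧ NR p y

namespace TwoSizes

variable (h : TwoSizes p c G) (hπ : MultiPrime p G)
include h hπ

/-- The `p`-regular part of a centraliser is central in it. -/
theorem commute_of_mem {x : G} (hx : NR p x) {g : G} (hg : g ∈ centralizer ({x} : Set G))
    (hgp : (orderOf g).Coprime p) {k : G} (hk : k ∈ centralizer ({x} : Set G)) : Commute g k := by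
  suffices g ∈ centralizer (centralizer ({x} : Set G) : Set G) from
    (mem_centralizer_iff.1 this k hk).symm
  by_contra hn
  obtain ⟨s, hs, hsg, i, v, hv, hi⟩ := exists_primary _ hn
  apply hi
  obtain ⟨q, hq, -, j, w, hw, hj⟩ := exists_primary (center G) hx.2
  have hx1 := h.nr_pow hx hj
  have hC1 := h.centralizer_pow hx hj
  have hgi : g ^ i ∈ centralizer ({x} : Set G) := pow_mem hg i
  have hall : g ^ i ∈ center G → g ^ i ∈ centralizer (centralizer ({x} : Set G) : Set G) :=
    fun hz => mem_centralizer_iff.2 fun a _ => mem_center_iff.1 hz a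
  by_cases hgz : g ^ i ∈ center G
  · exact hall hgz
  have hgn : NR p (g ^ i) := ⟨hgp.coprime_dvd_left (orderOf_pow_dvd i), hgz⟩
  have hmain : ∀ {y : G} {r b : ℕ}, NR p y → orderOf y = r ^ b → r.Prime → r ≠ s →
      centralizer ({y} : Set G) = centralizer ({x} : Set G) →
      g ^ i ∈ centralizer (centralizer ({x} : Set G) : Set G) := by
    intro y r b hy hyo hr hrs hCy
    have hcm : Commute (g ^ i) y := by
      have := hgi
      rw [← hCy, mem_centralizer_singleton_iff] at this
      exact this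
    have hE := h.coprime_pair hgn hy hcm (by
      rw [hv, hyo]; exact Nat.coprime_pow_primes _ _ hs hr hrs.symm)
    rw [← hCy, ← hE]
    exact mem_centralizer_iff.2 fun a ha => mem_centralizer_singleton_iff.1 ha
  by_cases hsq : q = s
  · obtain ⟨r, hr, -, hrs, y₀, v₀, hy₀, hy⟩ := hπ s hs
    obtain ⟨y, hyC, b, hyo, hyn⟩ := h.exists_primary_in hx hr hy₀ hy
    refine hmain hyn hyo hr hrs ?_
    rw [← hC1] at hyC ⊢
    refine h.coprime_pair hyn hx1 (mem_centralizer_singleton_iff.1 hyC) ?_
    rw [hyo, hw]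
    exact Nat.coprime_pow_primes _ _ hr hq (hsq ▸ hrs)
  · exact hmain hx1 hw hq hsq hC1

/-- Centralisers of non-central `p`-regular elements are equal or meet trivially. -/
theorem eq_of_mem {x y : G} (hx : NR p x) (hy : NR p y)
    (hyx : y ∈ centralizer ({x} : Set G)) :
    centralizer ({y} : Set G) = centralizer ({x} : Set G) :=
  (h.centralizer_eq_of_le hx hy fun _ hk =>
    mem_centralizer_singleton_iff.2 (h.commute_of_mem hπ hx hyx hy.1 hk).symm).symm

/-- The `p`-regular elements of a centraliser. -/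
def tor {x : G} (hx : NR p x) : Subgroup G where
  carrier := {g | g ∈ centralizer ({x} : Set G) ∧ (orderOf g).Coprime p}
  one_mem' := ⟨one_mem _, by rw [orderOf_one]; exact Nat.coprime_one_left p⟩
  mul_mem' := fun {a b} ha hb => ⟨mul_mem ha.1 hb.1,
    Nat.Coprime.coprime_dvd_left ((h.commute_of_mem hπ hx ha.1 ha.2 hb.1).orderOf_mul_dvd_lcm.trans
      (Nat.lcm_dvd_mul _ _)) (ha.2.mul_left hb.2)⟩
  inv_mem' := fun {a} ha => ⟨inv_mem ha.1, by rw [orderOf_inv]; exact ha.2⟩

end TwoSizes

end Cfsg.Agent.FGS76.TwoPReg
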