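import Cfsg.Agent.CharDeep.FpfCyclic

/-!
Groups acting on a finite abelian group, the non-trivial elements fixing nothing outside a fixed
subgroup: products of two primes give abelian subgroups and Sylow subgroups have rank one.
-/

set_option autoImplicit false

namespace Cfsg.Agent.FGS76.TwoPReg

open Finset
open scoped commutatorElement

variable {M W : Type*} [CommGroup M] [Group W] [Finite W] {f : W →* MulAut M} {Zm : Subgroup M}

theorem norm_mem (hfix : ∀ w : W, w ≠ 1 → ∀ y, f w y = y → y ∈ Zm) {c : W} (hc : c ≠ 1) {n : ℕ}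
    (hcn : c ^ n = 1) (y : M) : ∏ j ∈ range n, f (c ^ j) y ∈ Zm := by
  refine hfix c hc _ ?_
  rw [map_prod]
  rcases n with _ | m
  · simp
  rw [prod_range_succ, prod_range_succ' (fun j => f (c ^ j) y)]
  simp only [← MulAut.mul_apply, ← map_mul, ← pow_succ']
  rw [hcn, pow_zero]

theorem pow_mem_of_family (hfix : ∀ w : W, w ≠ 1 → ∀ y, f w y = y → y ∈ Zm) {q l : ℕ} (hq : 0 < q)
    (c : ℕ → W) (hc : ∀ i < l, c i ≠ 1 ∧ c i ^ q = 1)
    (h : ∀ j, 0 < j → j < q → ∃ b e : W, b ≠ 1 ∧ b ^ l = 1 ∧ ∀ i < l, c i ^ j = b ^ i * e)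
    (y : M) : y ^ l ∈ Zm := by
  have h1 : ∏ i ∈ range l, ∏ j ∈ range q, f (c i ^ j) y ∈ Zm :=
    Subgroup.prod_mem _ fun i hi => norm_mem hfix (hc i (mem_range.1 hi)).1 (hc i (mem_range.1 hi)).2 y
  rw [prod_comm] at h1
  obtain ⟨m, rfl⟩ : ∃ m, q = m + 1 := ⟨q - 1, by omega⟩
  rw [prod_range_succ'] at h1
  have h2 : ∏ j ∈ range m, ∏ i ∈ range l, f (c i ^ (j + 1)) y ∈ Zm := by
    refine Subgroup.prod_mem _ fun j hj => ?_
    obtain ⟨b, e, hb, hbl, hbe⟩ := h (j + 1) (Nat.succ_pos j)
      (Nat.succ_lt_succ (mem_range.1 hj))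
    rw [prod_congr rfl (fun i hi => show f (c i ^ (j + 1)) y = f (b ^ i) (f e y) by
      rw [hbe i (mem_range.1 hi), map_mul, MulAut.mul_apply])]
    exact norm_mem hfix hb hbl _
  have h3 : ∏ i ∈ range l, f (c i ^ 0) y = y ^ l := by simp
  rw [h3] at h1
  exact (Subgroup.mul_mem_cancel_left Zm h2).1 h1

/-- An element outside `Zm` of order prime to `l`. -/
def Escapes (Zm : Subgroup M) (l : ℕ) : Prop :=
  ∃ y : M, y ∉ Zm ∧ (orderOf y).Coprime l

theorem Escapes.false {l : ℕ} (he : Escapes Zm l) (h : ∀ y : M, y ^ l ∈ Zm) : False := by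
  obtain ⟨y, hy, hcop⟩ := he
  obtain ⟨m, hm⟩ := exists_pow_eq_self_of_coprime hcop.symm
  exact hy (hm ▸ pow_mem (h y) m)

/-- No elementary abelian subgroup of rank two. -/
theorem no_pair (hfix : ∀ w : W, w ≠ 1 → ∀ y, f w y = y → y ∈ Zm) {l : ℕ} (hl : l.Prime)
    (he : Escapes Zm l) {a b : W} (hab : Commute a b) (ha : orderOf a = l) (hb : orderOf b = l) :
    a ∈ Subgroup.zpowers b := by
  by_contra hn
  refine he.false fun y => pow_mem_of_family hfix hl.pos (fun i => b ^ i * a) ?_ ?_ y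
  · intro i _
    refine ⟨fun h => hn ?_, ?_⟩
    · rw [eq_inv_of_mul_eq_one_right h]
      exact inv_mem (pow_mem (Subgroup.mem_zpowers b) i)
    · rw [(hab.symm.pow_left i).mul_pow, ← pow_mul, mul_comm, pow_mul,
        ← hb, pow_orderOf_eq_one, one_pow, one_mul, hb, ← ha, pow_orderOf_eq_one]
  · intro j hj hjl
    refine ⟨b ^ j, a ^ j, ?_, ?_, fun i _ => ?_⟩
    · exact pow_ne_one_of_lt_orderOf hj.ne' (hb.symm ▸ hjl)
    · rw [← pow_mul, mul_comm, pow_mul, ← hb, pow_orderOf_eq_one, one_pow]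
    · rw [(hab.symm.pow_left i).mul_pow, ← pow_mul, mul_comm i j, pow_mul]

/-- An element normalising a subgroup of prime order, of prime order, centralises it. -/
theorem commute_of_normalizes (hfix : ∀ w : W, w ≠ 1 → ∀ y, f w y = y → y ∈ Zm) {q l : ℕ}
    (hq : q.Prime) (hl : l.Prime) (he : Escapes Zm l) {a u : W} (ha : orderOf a = l)
    (hu : orderOf u = q) (hn : ∀ j : ℕ, u ^ j * a * (u ^ j)⁻¹ ∈ Subgroup.zpowers a) :
    Commute a u := by
  by_contra hnc
  refine he.false fun y => pow_mem_of_family hfix hq.pos (fun i => a ^ i * u * (a ^ i)⁻¹) ?_ ?_ y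
  · intro i _
    refine ⟨fun h => ?_, ?_⟩
    · rw [mul_inv_eq_one, mul_eq_left] at h
      rw [h, orderOf_one] at hu
      exact hq.one_lt.ne hu
    · rw [conj_pow, ← hu, pow_orderOf_eq_one, mul_one, mul_inv_cancel]
  · intro j hj hjq
    have hd : u ^ j * a⁻¹ * (u ^ j)⁻¹ ∈ Subgroup.zpowers a := by
      have := inv_mem (hn j)
      rwa [mul_inv_rev, mul_inv_rev, inv_inv, ← mul_assoc] at this
    refine ⟨a * (u ^ j * a⁻¹ * (u ^ j)⁻¹), u ^ j, ?_, ?_, fun i _ => ?_⟩
    · intro h
      have hc : Commute a (u ^ j) := by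
        rw [mul_eq_one_iff_eq_inv, mul_inv_rev, mul_inv_rev, inv_inv, inv_inv] at h
        show a * u ^ j = u ^ j * a
        nth_rewrite 1 [h]
        group
      obtain ⟨m, hm⟩ := exists_pow_eq_self_of_coprime (x := u) (n := j) (by
        rw [hu, Nat.coprime_comm, hq.coprime_iff_not_dvd]
        intro hd'
        have := Nat.le_of_dvd hj hd'
        omega)
      exact hnc (hm ▸ hc.pow_right m)
    · obtain ⟨k, hk⟩ := Subgroup.mem_zpowers_iff.1 (mul_mem (Subgroup.mem_zpowers a) hd)
      rw [← hk, ← zpow_natCast (a ^ k), ← zpow_mul, mul_comm, zpow_mul, zpow_natCast,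
        ← ha, pow_orderOf_eq_one, one_zpow]
    · have hcd : Commute a (u ^ j * a⁻¹ * (u ^ j)⁻¹) := by
        obtain ⟨k, hk⟩ := Subgroup.mem_zpowers_iff.1 hd
        rw [← hk]
        exact (Commute.refl a).zpow_right k
      rw [conj_pow, hcd.mul_pow, conj_pow, inv_pow]
      group

/-- At most one involution. -/
theorem involution_unique (hfix : ∀ w : W, w ≠ 1 → ∀ y, f w y = y → y ∈ Zm)
    (he : ∀ l : ℕ, l.Prime → Escapes Zm l) {a b : W} (ha : orderOf a = 2) (hb : orderOf b = 2) :
    a = b := by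
  have ha2 : a * a = 1 := by rw [← sq, ← ha, pow_orderOf_eq_one]
  have hb2 : b * b = 1 := by rw [← sq, ← hb, pow_orderOf_eq_one]
  have hai : a⁻¹ = a := inv_eq_of_mul_eq_one_right ha2
  have hinv : ∀ k : ℕ, a * (a * b) ^ k * a⁻¹ = ((a * b) ^ k)⁻¹ := fun k => by
    rw [← conj_pow, ← inv_pow, mul_inv_rev, inv_eq_of_mul_eq_one_right hb2, hai,
      ← mul_assoc a a b, ha2, one_mul]
  -- the order of `a * b` is a power of two
  have h2 : ∀ l : ℕ, l.Prime → l ∣ orderOf (a * b) → l = 2 := by
    intro l hl hdvd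
    by_contra hl2
    have hh : orderOf ((a * b) ^ (orderOf (a * b) / l)) = l :=
      orderOf_pow_orderOf_div (orderOf_pos _).ne' hdvd
    set h := (a * b) ^ (orderOf (a * b) / l) with hh'
    have hc := commute_of_normalizes hfix Nat.prime_two hl (he l hl) hh ha (fun j => by
      rcases Nat.even_or_odd' j with ⟨k, rfl | rfl⟩
      · rw [pow_mul, sq, ha2, one_pow, one_mul, inv_one, mul_one]
        exact Subgroup.mem_zpowers h
      · rw [pow_succ, pow_mul, sq, ha2, one_pow, one_mul, hh', hinv]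
        exact inv_mem (Subgroup.mem_zpowers _))
    have h3 : h = h⁻¹ := by
      conv_lhs => rw [← mul_inv_cancel_right h a, hc.eq, hh', hinv, ← hh']
    have h4 : orderOf h ∣ 2 := orderOf_dvd_of_pow_eq_one (by
      rw [sq]; nth_rewrite 1 [h3]; exact inv_mul_cancel h)
    rw [hh] at h4
    exact hl2 ((Nat.prime_dvd_prime_iff_eq hl Nat.prime_two).1 h4)
  by_cases h1 : a * b = 1
  · rw [eq_inv_of_mul_eq_one_left h1, inv_eq_of_mul_eq_one_right hb2]
  · obtain ⟨l, hl, hdvd⟩ := Nat.exists_prime_and_dvd (mt orderOf_eq_one_iff.1 h1)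
    have := h2 l hl hdvd
    subst this
    have hc : orderOf ((a * b) ^ (orderOf (a * b) / 2)) = 2 :=
      orderOf_pow_orderOf_div (orderOf_pos _).ne' hdvd
    set c := (a * b) ^ (orderOf (a * b) / 2) with hc'
    have hci : c⁻¹ = c := inv_eq_of_mul_eq_one_right (by rw [← sq, ← hc, pow_orderOf_eq_one])
    have hac : Commute a c := by
      have h3 := hinv (orderOf (a * b) / 2)
      rw [← hc', hci, mul_inv_eq_iff_eq_mul] at h3
      exact h3
    have hbc : Commute b c := by
      have h3 : Commute (a * b) c := (Commute.refl _).pow_right _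
      have h4 := hac.inv_left.mul_left h3
      rwa [inv_mul_cancel_left] at h4
    have e : ∀ x : W, orderOf x = 2 → Commute x c → x = c := by
      intro x hx hxc
      obtain ⟨k, hk⟩ := mem_powers_iff_mem_zpowers.2 (no_pair hfix Nat.prime_two
        (he 2 Nat.prime_two) hxc hx hc)
      change c ^ k = x at hk
      rcases Nat.even_or_odd' k with ⟨i, rfl | rfl⟩
      · rw [pow_mul, ← hc, pow_orderOf_eq_one, one_pow] at hk
        rw [← hk, orderOf_one] at hx
        omega
      · rw [pow_succ, pow_mul, ← hc, pow_orderOf_eq_one, one_pow, one_mul] at hk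
        exact hk.symm
    rw [e a ha hac, e b hb hbc]

/-- Two primes cannot both occur. -/
theorem two_primes_false (hfix : ∀ w : W, w ≠ 1 → ∀ y, f w y = y → y ∈ Zm)
    (he : ∀ l : ℕ, l.Prime → Escapes Zm l) {q r : ℕ} (hq : q.Prime) (hr : r.Prime) (hqr : q ≠ r)
    (hKq : ∀ u v : W, orderOf u = q → Commute u v → (orderOf v).Coprime q → v = 1)
    (hKr : ∀ u v : W, orderOf u = r → Commute u v → (orderOf v).Coprime r → v = 1)
    (hqW : q ∣ Nat.card W) (hrW : r ∣ Nat.card W) : False := by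
  haveI := Fact.mk hq
  haveI := Fact.mk hr
  obtain ⟨u, hu⟩ := exists_prime_orderOf_dvd_card' q hqW
  obtain ⟨v, hv⟩ := exists_prime_orderOf_dvd_card' r hrW
  -- a normal subgroup of prime order gives a contradiction
  have hfin : ∀ (l : ℕ) (a : W), l.Prime → orderOf a = l →
      (∀ g : W, g * a * g⁻¹ ∈ Subgroup.zpowers a) → False := by
    intro l a hl ha hnorm
    have ha1 : a ≠ 1 := fun h => by rw [h, orderOf_one] at ha; exact hl.one_lt.ne ha
    by_cases hlq : l = q
    · refine ha1 (hKr v a hv (commute_of_normalizes hfix hr hl (he l hl) ha hv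
        fun j => hnorm _).symm ?_)
      rw [ha, hlq]
      exact (Nat.coprime_primes hq hr).2 hqr
    · refine ha1 (hKq u a hu (commute_of_normalizes hfix hq hl (he l hl) ha hu
        fun j => hnorm _).symm ?_)
      rw [ha]
      exact (Nat.coprime_primes hl hq).2 hlq
  by_cases h2 : 2 ∣ Nat.card W
  · haveI := Fact.mk Nat.prime_two
    obtain ⟨t, ht⟩ := exists_prime_orderOf_dvd_card' 2 h2
    refine hfin 2 t Nat.prime_two ht fun g => ?_
    have ho : orderOf (g * t * g⁻¹) = 2 := (MulEquiv.orderOf_eq (MulAut.conj g) t).trans ht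
    rw [involution_unique hfix he ho ht]
    exact Subgroup.mem_zpowers t
  · have hZ : IsZGroup W := ⟨fun l hl P => by
      haveI := Fact.mk hl
      rcases hl.eq_two_or_odd' with rfl | hodd
      · have h0 : Nat.card P = 1 := by
          obtain ⟨k, hk⟩ := IsPGroup.iff_card.1 P.isPGroup'
          rcases k with _ | k
          · simpa using hk
          · exact absurd ((hk ▸ dvd_pow_self 2 (Nat.succ_ne_zero k) :
              2 ∣ Nat.card P).trans (Subgroup.card_subgroup_dvd_card _)) h2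
        haveI := (Nat.card_eq_one_iff_unique.1 h0).1
        infer_instance
      · refine CharDeep.Zass.isCyclic_of_no_pair hodd P.isPGroup' fun x y hxy hx hy => ?_
        obtain ⟨k, hk⟩ := Subgroup.mem_zpowers_iff.1 (no_pair hfix hl (he l hl)
          (hxy.map (P : Subgroup W).subtype)
          ((orderOf_injective _ Subtype.coe_injective x).trans hx)
          ((orderOf_injective _ Subtype.coe_injective y).trans hy))
        exact Subgroup.mem_zpowers_iff.2 ⟨k, Subtype.ext (by simpa using hk)⟩⟩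
    have hsol : Group.IsSolvable W := inferInstance
    -- a nontrivial abelian normal subgroup
    obtain ⟨A, hAn, hA1, hAc⟩ : ∃ A : Subgroup W, A.Normal ∧ A ≠ ⊥ ∧
        ∀ x ∈ A, ∀ y ∈ A, x * y = y * x := by
      have hex : ∃ n, derivedSeries W n = ⊥ := Group.IsSolvable.solvable
      classical
      have hn0 : Nat.find hex ≠ 0 := by
        intro h0
        have h3 := Nat.find_spec hex
        rw [h0, derivedSeries_zero] at h3
        have h4 : u ∈ (⊥ : Subgroup W) := h3 ▸ Subgroup.mem_top u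
        rw [Subgroup.mem_bot.1 h4, orderOf_one] at hu
        exact hq.one_lt.ne hu
      obtain ⟨k, hk⟩ : ∃ k, Nat.find hex = k + 1 := ⟨Nat.find hex - 1, by omega⟩
      refine ⟨derivedSeries W k, inferInstance, Nat.find_min hex (by omega), fun x hx y hy => ?_⟩
      have h3 := Nat.find_spec hex
      rw [hk, derivedSeries_succ] at h3
      have h4 : ⁅x, y⁆ ∈ (⊥ : Subgroup W) := h3 ▸ Subgroup.commutator_mem_commutator hx hy
      exact commutatorElement_eq_one_iff_mul_comm.1 (Subgroup.mem_bot.1 h4)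
    obtain ⟨l, hl, hlA⟩ := Nat.exists_prime_and_dvd
      (fun h => hA1 (Subgroup.card_eq_one.1 h) : Nat.card A ≠ 1)
    haveI := Fact.mk hl
    obtain ⟨a, ha⟩ := exists_prime_orderOf_dvd_card' l hlA
    rw [← Subgroup.orderOf_coe] at ha
    refine hfin l a hl ha fun g => ?_
    exact no_pair hfix hl (he l hl) (hAc _ (hAn.conj_mem _ a.2 g) _ a.2)
      ((MulEquiv.orderOf_eq (MulAut.conj g) (a : W)).trans ha) ha

end Cfsg.Agent.FGS76.TwoPReg
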