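import Cfsg.Agent.FGS76.TwoPReg.Base
import Cfsg.Agent.FGS76.TwoPReg.Partition

/-!
Finite groups whose `p`-regular classes have two sizes: at most one prime different from `p`
divides the non-trivial class size.
-/

set_option autoImplicit false
set_option linter.unusedSectionVars false

namespace Cfsg.Agent.FGS76.TwoPReg.TwoSizes

open Subgroup
open scoped commutatorElement

variable {G : Type*} [Group G] [Finite G] {p c : ℕ} (h : TwoSizes p c G) (hπ : MultiPrime p G)
include h hπ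

theorem mem_tor {x : G} (hx : NR p x) {g : G} :
    g ∈ h.tor hπ hx ↔ g ∈ centralizer ({x} : Set G) ∧ (orderOf g).Coprime p := Iff.rfl

theorem self_mem_tor {x : G} (hx : NR p x) : x ∈ h.tor hπ hx := ⟨self_mem_centralizer x, hx.1⟩

theorem tor_comm {x : G} (hx : NR p x) {a b : G} (ha : a ∈ h.tor hπ hx) (hb : b ∈ h.tor hπ hx) :
    a * b = b * a :=
  h.commute_of_mem hπ hx ha.1 ha.2 hb.1

theorem centralizer_tor {x : G} (hx : NR p x) :
    centralizer (h.tor hπ hx : Set G) = centralizer ({x} : Set G) := by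
  refine le_antisymm (fun g hg => mem_centralizer_singleton_iff.2
    (mem_centralizer_iff.1 hg x (h.self_mem_tor hπ hx)).symm) fun g hg => ?_
  exact mem_centralizer_iff.2 fun t ht => h.commute_of_mem hπ hx ht.1 ht.2 hg

/-- An element moving one non-central element of a torus into it normalises it. -/
theorem mem_normalizer {x : G} (hx : NR p x) {y : G} (hy : y ∈ h.tor hπ hx) (hyn : y ∉ center G)
    {g : G} (hg : g * y * g⁻¹ ∈ centralizer ({x} : Set G)) :
    g ∈ normalizer (h.tor hπ hx : Set G) := by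
  have ho : ∀ a : G, orderOf (g * a * g⁻¹) = orderOf a := fun a =>
    MulEquiv.orderOf_eq (MulAut.conj g) a
  have hy' : NR p (g * y * g⁻¹) := ⟨(ho y).symm ▸ hy.2, fun hz => hyn (by
    have h1 := Subgroup.Normal.conj_mem (inferInstance : (center G).Normal) _ hz g⁻¹
    simpa [mul_assoc] using h1)⟩
  have e1 := h.eq_of_mem hπ hx hy' hg
  have e2 := h.eq_of_mem hπ hx ⟨hy.2, hyn⟩ hy.1
  have key : ∀ a : G, a ∈ centralizer ({x} : Set G) ↔ g * a * g⁻¹ ∈ centralizer ({x} : Set G) := by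
    intro a
    conv_rhs => rw [← e1]
    conv_lhs => rw [← e2]
    rw [mem_centralizer_singleton_iff, mem_centralizer_singleton_iff]
    constructor
    · intro e
      calc g * a * g⁻¹ * (g * y * g⁻¹) = g * (a * y) * g⁻¹ := by group
        _ = g * (y * a) * g⁻¹ := by rw [e]
        _ = g * y * g⁻¹ * (g * a * g⁻¹) := by group
    · intro e
      calc a * y = g⁻¹ * (g * a * g⁻¹ * (g * y * g⁻¹)) * g := by group
        _ = g⁻¹ * (g * y * g⁻¹ * (g * a * g⁻¹)) * g := by rw [e]
        _ = y * a := by group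
  refine mem_normalizer_iff.2 fun a => ?_
  rw [h.mem_tor hπ hx, h.mem_tor hπ hx, key a, ho]

/-- A `q`-element outside the centraliser normalising the torus, when `q` divides the class size. -/
theorem exists_normalizing {x : G} (hx : NR p x) {q : ℕ} (hq : q.Prime) (hqp : q ≠ p)
    (hqm : q ∣ (centralizer ({x} : Set G)).index) :
    ∃ u : G, (∃ v : ℕ, orderOf u = q ^ v) ∧ u ∈ normalizer (h.tor hπ hx : Set G) ∧
      u ∉ centralizer ({x} : Set G) := by
  haveI := Fact.mk hq
  set C := centralizer ({x} : Set G) with hC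
  -- `C` contains a non-central `q`-element
  obtain ⟨y, hyC, v, hyo, hyn⟩ : ∃ y ∈ C, ∃ v : ℕ, orderOf y = q ^ v ∧ NR p y := by
    obtain ⟨S⟩ := (inferInstance : Nonempty (Sylow q G))
    by_cases hSZ : (S : Subgroup G) ≤ center G
    · have h1 : (S : Subgroup G) ≤ C := hSZ.trans (center_le_centralizer' x)
      exact absurd (hqm.trans (index_dvd_of_le h1)) S.not_dvd_index
    · obtain ⟨y0, hy0, hy0n⟩ := SetLike.not_le_iff_exists.1 hSZ
      obtain ⟨v0, hv0⟩ := IsPGroup.iff_orderOf.1 S.isPGroup' ⟨y0, hy0⟩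
      rw [← Subgroup.orderOf_coe] at hv0
      exact h.exists_primary_in hx hq hv0
        ⟨hv0 ▸ Nat.Coprime.pow_left v0 ((Nat.coprime_primes hq h.prime).2 hqp), hy0n⟩
  have hzy : IsPGroup q (zpowers y) := IsPGroup.of_card (n := v) (by rw [Nat.card_zpowers, hyo])
  obtain ⟨Q1, hQ1⟩ := (hzy.comap_of_injective C.subtype Subtype.coe_injective).exists_le_sylow
  set U := (Q1 : Subgroup C).map C.subtype with hU
  have hyU : y ∈ U := ⟨⟨y, hyC⟩, hQ1 (mem_comap.2 (mem_zpowers y)), rfl⟩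
  have hUp : IsPGroup q U := Q1.isPGroup'.map _
  have hUC : U ≤ C := map_subtype_le _
  obtain ⟨S, hUS⟩ := hUp.exists_le_sylow
  have hlt : U < (S : Subgroup G) := by
    refine lt_of_le_of_ne hUS fun he => ?_
    exact absurd (hqm.trans (index_dvd_of_le (he ▸ hUC : (S : Subgroup G) ≤ C))) S.not_dvd_index
  haveI := S.isPGroup'.isNilpotent
  have hlt' : U.subgroupOf (S : Subgroup G) < ⊤ :=
    lt_top_iff_ne_top.2 fun e => hlt.not_ge (subgroupOf_eq_top.1 e)
  have hnc := Group.normalizerCondition_of_isNilpotent (G := (S : Subgroup G)) _ hlt'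
  obtain ⟨g, hgN, hgU⟩ := SetLike.exists_of_lt hnc
  refine ⟨g, ?_, ?_, ?_⟩
  · obtain ⟨w, hw⟩ := IsPGroup.iff_orderOf.1 S.isPGroup' g
    exact ⟨w, (Subgroup.orderOf_coe g).trans hw⟩
  · refine h.mem_normalizer hπ hx ⟨hyC, hyn.1⟩ hyn.2 (hUC ?_)
    have := (mem_normalizer_iff.1 hgN ⟨y, hUS hyU⟩).1 (mem_subgroupOf.2 hyU)
    exact mem_subgroupOf.1 this
  · intro hgC
    apply hgU
    rw [mem_subgroupOf]
    -- `⟨U, g⟩` is a `q`-subgroup of `C`
    have hle : (Q1 : Subgroup C) ≤ (S : Subgroup G).subgroupOf C := fun a ha => hUS ⟨a, ha, rfl⟩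
    have hmax := Q1.3 (S.isPGroup'.comap_of_injective C.subtype Subtype.coe_injective) hle
    refine ⟨⟨g, hgC⟩, ?_, rfl⟩
    show (⟨(g : G), hgC⟩ : C) ∈ (Q1 : Subgroup C)
    rw [← hmax]
    exact g.2

/-- An element commuting with a `q`-element modulo the centraliser, of order prime to `q`, centralises. -/
theorem kill {x : G} (hx : NR p x) {q : ℕ} (hq : q.Prime) (hqp : q ≠ p) {u : G} {b : ℕ}
    (hu : orderOf u = q ^ b)
    (huN : u ∈ normalizer (h.tor hπ hx : Set G)) (huC : u ∉ centralizer ({x} : Set G)) {v : G}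
    (hvN : v ∈ normalizer (h.tor hπ hx : Set G)) (huv : ⁅v, u⁆ ∈ centralizer ({x} : Set G))
    {n : ℕ} (hn : v ^ n ∈ centralizer ({x} : Set G)) (hnq : n.Coprime q) :
    v ∈ centralizer ({x} : Set G) := by
  haveI := Fact.mk hq
  set C := centralizer ({x} : Set G) with hC
  set T := h.tor hπ hx with hT
  have hcopq : ∀ w, (q ^ w).Coprime p := fun w =>
    Nat.Coprime.pow_left w ((Nat.coprime_primes hq h.prime).2 hqp)
  -- the `q`-part of the torus
  let A : Subgroup G :=
    { carrier := {g | g ∈ T ∧ ∃ w : ℕ, g ^ q ^ w = 1}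
      one_mem' := ⟨one_mem _, 0, one_pow _⟩
      mul_mem' := fun {a a'} ha ha' => by
        obtain ⟨haT, w, hw⟩ := ha
        obtain ⟨haT', w', hw'⟩ := ha'
        refine ⟨mul_mem haT haT', w + w', ?_⟩
        rw [(show Commute a a' from h.tor_comm hπ hx haT haT').mul_pow]
        have e1 : a ^ q ^ (w + w') = 1 := by rw [pow_add, pow_mul, hw, one_pow]
        have e2 : a' ^ q ^ (w + w') = 1 := by rw [pow_add, mul_comm, pow_mul, hw', one_pow]
        rw [e1, e2, mul_one]
      inv_mem' := fun {a} ha => by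
        obtain ⟨haT, w, hw⟩ := ha
        exact ⟨inv_mem haT, w, by rw [inv_pow, hw, inv_one]⟩ }
  obtain ⟨y0, hy0, w0, hy0o, hy0n⟩ : ∃ y ∈ C, ∃ w : ℕ, orderOf y = q ^ w ∧ NR p y :=
    h.exists_primary_in hx hq hu ⟨hu ▸ hcopq b, fun hz => huC (center_le_centralizer' x hz)⟩
  have hAp : IsPGroup q A := by
    rintro ⟨a, -, w, hw⟩
    exact ⟨w, Subtype.ext (by rw [SubgroupClass.coe_pow, OneMemClass.coe_one]; exact hw)⟩
  have hAnorm : ∀ r ∈ zpowers u, ∀ a ∈ A, r * a * r⁻¹ ∈ A := by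
    rintro r hr a ⟨haT, w, hw⟩
    exact ⟨(mem_normalizer_iff.1 (zpowers_le.2 huN hr) a).1 haT, w,
      by rw [conj_pow, hw, mul_one, mul_inv_cancel]⟩
  obtain ⟨t, ⟨htT, wt, hwt⟩, htn, htu⟩ := exists_central_mod (center G)
    (IsPGroup.of_card (n := b) (by rw [Nat.card_zpowers, hu])) hAp
    (fun hle => hy0n.2 (hle ⟨⟨hy0, hy0n.1⟩, w0, by rw [← hy0o, pow_orderOf_eq_one]⟩)) hAnorm
  have hδ := htu u (mem_zpowers u)
  set z := ⁅u, t⁆ with hz
  have hut : u * t * u⁻¹ = z * t := by rw [hz, commutatorElement_def]; group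
  -- the image `v t v⁻¹` has the same commutator with `u`
  set t' := v * t * v⁻¹ with ht'
  have ht'T : t' ∈ T := (mem_normalizer_iff.1 hvN t).1 htT
  have hut' : u * t' * u⁻¹ = z * t' := by
    set c0 := ⁅v, u⁆ with hc0
    have e : u = c0⁻¹ * v * u * v⁻¹ := by rw [hc0, commutatorElement_def]; group
    have hcz : ∀ s : G, z * s = s * z := fun s => (mem_center_iff.1 hδ s).symm
    have e1 : v * u * v⁻¹ * t' * (v * u * v⁻¹)⁻¹ = z * t' := by
      rw [ht']
      calc _ = v * (u * t * u⁻¹) * v⁻¹ := by group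
        _ = v * (z * t) * v⁻¹ := by rw [hut]
        _ = z * (v * t * v⁻¹) := by rw [← mul_assoc v z t, ← hcz v]; group
    calc u * t' * u⁻¹ = c0⁻¹ * (v * u * v⁻¹ * t' * (v * u * v⁻¹)⁻¹) * c0 := by
          conv_lhs => rw [e]
          group
      _ = c0⁻¹ * (z * t') * c0 := by rw [e1]
      _ = z * t' := by
          have hcm : (z * t') * c0 = c0 * (z * t') := (mem_centralizer_iff.1
            (by rw [h.centralizer_tor hπ hx]; exact huv : c0 ∈ centralizer (T : Set G)) (z * t')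
            (mul_mem (show z ∈ T from ?_) ht'T))
          rw [mul_assoc, hcm, inv_mul_cancel_left]
          have h1 : z = u * t * u⁻¹ * t⁻¹ := by rw [hut, mul_inv_cancel_right]
          rw [h1]
          exact mul_mem ((mem_normalizer_iff.1 huN t).1 htT) (inv_mem htT)
  have hm : t⁻¹ * t' ∈ center G := by
    by_contra hn'
    apply huC
    have hfix : u * (t⁻¹ * t') * u⁻¹ = t⁻¹ * t' := by
      calc u * (t⁻¹ * t') * u⁻¹ = (u * t * u⁻¹)⁻¹ * (u * t' * u⁻¹) := by group
        _ = (z * t)⁻¹ * (z * t') := by rw [hut, hut']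
        _ = t⁻¹ * t' := by group
    rw [hC, ← h.eq_of_mem hπ hx ⟨(mul_mem (inv_mem htT) ht'T).2, hn'⟩ (mul_mem (inv_mem htT) ht'T).1,
      mem_centralizer_singleton_iff]
    exact mul_inv_eq_iff_eq_mul.1 hfix
  set w := t⁻¹ * t' with hw
  have hcw : ∀ s : G, w * s = s * w := fun s => (mem_center_iff.1 hm s).symm
  have hiter : ∀ k : ℕ, v ^ k * t * (v ^ k)⁻¹ = t * w ^ k := by
    intro k
    induction k with
    | zero => simp
    | succ k ih =>
      calc v ^ (k + 1) * t * (v ^ (k + 1))⁻¹ = v * (v ^ k * t * (v ^ k)⁻¹) * v⁻¹ := by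
            rw [pow_succ']; group
        _ = (v * t * v⁻¹) * (v * w ^ k * v⁻¹) := by rw [ih]; group
        _ = (t * w) * w ^ k := by
            rw [← (show Commute (w ^ k) v from (show Commute w v from hcw v).pow_left k).eq,
              mul_inv_cancel_right, hw, mul_inv_cancel_left]
        _ = t * w ^ (k + 1) := by rw [mul_assoc, ← pow_succ']
  have hwn : w ^ n = 1 := by
    have h1 := hiter n
    rw [hC, ← h.centralizer_tor hπ hx] at hn
    rw [← mem_centralizer_iff.1 hn t htT, mul_inv_cancel_right] at h1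
    exact (mul_eq_left.1 h1.symm)
  have hwq : w ^ q ^ wt = 1 := by
    have hc' : Commute t⁻¹ t' := h.tor_comm hπ hx (inv_mem htT) ht'T
    rw [hw, hc'.mul_pow, inv_pow, hwt, inv_one, one_mul, ht', conj_pow, hwt, mul_one, mul_inv_cancel]
  have hw1 : w = 1 := by
    rw [← orderOf_eq_one_iff]
    exact Nat.eq_one_of_dvd_coprimes (hnq.pow_right wt) (orderOf_dvd_of_pow_eq_one hwn)
      (orderOf_dvd_of_pow_eq_one hwq)
  have ht1 : t' = t := by
    have : t * w = t' := by rw [hw, mul_inv_cancel_left]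
    rw [← this, hw1, mul_one]
  rw [hC, ← h.eq_of_mem hπ hx ⟨htT.2, htn⟩ htT.1, mem_centralizer_singleton_iff]
  exact mul_inv_eq_iff_eq_mul.1 ht1

/-- At most one prime other than `p` divides the class size. -/
theorem prime_unique {x : G} (hx : NR p x) {q r : ℕ} (hq : q.Prime) (hr : r.Prime) (hqp : q ≠ p)
    (hrp : r ≠ p) (hqm : q ∣ (centralizer ({x} : Set G)).index)
    (hrm : r ∣ (centralizer ({x} : Set G)).index) : q = r := by
  classical
  by_contra hqr
  set C := centralizer ({x} : Set G) with hC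
  set T := h.tor hπ hx with hT
  letI : CommGroup T :=
    { (inferInstance : Group T) with
      mul_comm := fun a b => Subtype.ext (h.tor_comm hπ hx a.2 b.2) }
  let Ψ : normalizer (T : Set G) →* MulAut T := T.normalizerMonoidHom
  let W := Ψ.range
  have hker : ∀ g : normalizer (T : Set G), Ψ g = 1 ↔ (g : G) ∈ C := by
    intro g
    rw [← MonoidHom.mem_ker, normalizerMonoidHom_ker, mem_subgroupOf, h.centralizer_tor hπ hx]
  let Zm : Subgroup T := (center G).subgroupOf T
  have hfix : ∀ w : W, w ≠ 1 → ∀ y, W.subtype w y = y → y ∈ Zm := by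
    rintro ⟨_, g, rfl⟩ hw y hy
    by_contra hn
    rw [mem_subgroupOf] at hn
    apply hw
    refine Subtype.ext ((hker g).2 ?_)
    rw [hC, ← h.eq_of_mem hπ hx ⟨y.2.2, hn⟩ y.2.1, mem_centralizer_singleton_iff]
    exact mul_inv_eq_iff_eq_mul.1 (congrArg Subtype.val hy)
  have hesc : ∀ l : ℕ, l.Prime → Escapes Zm l := by
    intro l hl
    obtain ⟨r', hr', -, hr'l, y₀, v₀, hy₀, hy⟩ := hπ l hl
    obtain ⟨y, hyC, v, hyo, hyn⟩ := h.exists_primary_in hx hr' hy₀ hy
    refine ⟨⟨y, hyC, hyn.1⟩, fun hh => hyn.2 (mem_subgroupOf.1 hh), ?_⟩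
    rw [← orderOf_injective T.subtype Subtype.coe_injective]
    exact hyo ▸ Nat.Coprime.pow_left v ((Nat.coprime_primes hr' hl).2 hr'l)
  have hK : ∀ s : ℕ, s.Prime → s ≠ p → ∀ u v : W, orderOf u = s → Commute u v →
      (orderOf v).Coprime s → v = 1 := by
    rintro s hs hsp ⟨_, g, rfl⟩ ⟨_, g', rfl⟩ hu huv hv
    haveI := Fact.mk hs
    -- replace `g` by its `s`-part
    obtain ⟨b, g1, ⟨i, hi⟩, ⟨j, -⟩, hbg, ⟨e, he⟩, hg1⟩ := exists_split s g
    have hgs : Ψ g1 = 1 := by
      rw [← orderOf_eq_one_iff]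
      refine Nat.eq_one_of_dvd_coprimes ((hs.coprime_iff_not_dvd.2 hg1).symm)
        (orderOf_map_dvd _ _) ?_
      have hb' : Ψ b = Ψ g ^ i := by rw [hi, map_pow]
      have h1 : Ψ g1 = (Ψ b)⁻¹ * Ψ g := by rw [← hbg, map_mul, inv_mul_cancel_left]
      have h2 : orderOf (Ψ g) = s := (Subgroup.orderOf_coe (⟨Ψ g, g, rfl⟩ : W)).trans hu
      rw [h1, hb']
      apply orderOf_dvd_of_pow_eq_one
      rw [((Commute.refl (Ψ g)).pow_left i).inv_left.mul_pow, inv_pow, ← pow_mul, mul_comm, pow_mul,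
        ← h2, pow_orderOf_eq_one, one_pow, inv_one, one_mul]
    have hΨ : Ψ b = Ψ g := by rw [← hbg, map_mul, hgs, mul_one]
    refine Subtype.ext ((hker g').2 ?_)
    have hu1 : (b : G) ∉ C := fun hb => by
      have h1 : (⟨Ψ g, g, rfl⟩ : W) = 1 := Subtype.ext (hΨ.symm.trans ((hker b).2 hb))
      rw [h1, orderOf_one] at hu
      exact hs.one_lt.ne hu
    refine h.kill hπ hx hs hsp (u := b) ((Subgroup.orderOf_coe b).trans he) b.2 hu1 g'.2
      ?_ (n := orderOf (Ψ g')) ?_ ((Subgroup.orderOf_coe (⟨Ψ g', g', rfl⟩ : W)) ▸ hv)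
    · refine (hker ⁅g', b⁆).1 ?_
      rw [map_commutatorElement, hΨ, commutatorElement_eq_one_iff_mul_comm]
      exact (congrArg Subtype.val huv.eq).symm
    · exact (hker (g' ^ orderOf (Ψ g'))).1 (by rw [map_pow, pow_orderOf_eq_one])
  have hdvd : ∀ s : ℕ, s.Prime → s ≠ p → s ∣ C.index → s ∣ Nat.card W := by
    intro s hs hsp hsm
    haveI := Fact.mk hs
    obtain ⟨u, ⟨v, hv⟩, huN, huC⟩ := h.exists_normalizing hπ hx hs hsp hsm
    have h1 : orderOf (Ψ.rangeRestrict ⟨u, huN⟩) ∣ s ^ v := by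
      rw [← hv]
      exact (orderOf_map_dvd _ _).trans (Subgroup.orderOf_mk u huN).dvd
    obtain ⟨k, -, hk⟩ := (Nat.dvd_prime_pow hs).1 h1
    rcases k with _ | k
    · rw [pow_zero, orderOf_eq_one_iff] at hk
      exact absurd ((hker ⟨u, huN⟩).1 (congrArg Subtype.val hk)) huC
    · exact (dvd_pow_self s (Nat.succ_ne_zero k)).trans (hk ▸ orderOf_dvd_natCard _)
  exact two_primes_false (f := W.subtype) hfix hesc hq hr hqr (hK q hq hqp) (hK r hr hrp)
    (hdvd q hq hqp hqm) (hdvd r hr hrp hrm)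

end Cfsg.Agent.FGS76.TwoPReg.TwoSizes
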